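import Mathlib
import Cfsg.Agent.SPOR.MP.P10A
import Cfsg.Agent.SPOR.MP.Rk5
import Cfsg.Agent.SPOR.MR.Inv
import Cfsg.Agent.SPOR.Griess.MTFin
import Cfsg.Agent.SPOR.Y5.TypeM
import Cfsg.Agent.SPOR.MonThree

/-! Involutions of Monster type: the canonical extraspecial group `QQ y` of an involution, Leech
lattice charts `Cx` at an involution, and how they move under conjugation. -/

set_option autoImplicit false
set_option linter.unusedSectionVars false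

namespace CL.PA

open Cfsg CL CL.Leech CL.LX CL.MSS CL.MT CL.MP CL.Rk Subgroup

variable {G : Type*} [Group G]

/-- the generalized Fitting subgroup of the centralizer, as a subgroup of `G` -/
def QQ (y : G) : Subgroup G :=
  (generalizedFittingSubgroup (centralizer ({y} : Set G))).map (centralizer ({y} : Set G)).subtype

/-- a chart at `z`: `R v x` says `x ∈ QQ z` lies over the class of `v` modulo `2Λ`, `A k c` says
`c ∈ C(z)` lies over `±k ∈ Co0`; involutions do not lie over elements with square `-1`. -/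
structure Cx (z : G) (R : leechLattice → G → Prop) (A : Co0 → G → Prop) : Prop where
  mt : MT z (QQ z) R A
  hB : ∀ k c, k * k = neg1 → A k c → c * c ≠ 1

/-- `z` has a chart (`z` is a `2B` involution) -/
def Mo (z : G) : Prop := ∃ R A, Cx z R A

variable {z : G} {R : leechLattice → G → Prop} {A : Co0 → G → Prop}

theorem QQ_eq [Finite G] {Q : Subgroup G} (h : MT z Q R A) : QQ z = Q := by
  rw [QQ, h.fstar_eq]; exact map_subgroupOf_eq_of_le h.le_cent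

theorem Cx.mo (h : Cx z R A) : Mo z := ⟨R, A, h⟩

theorem Cx.twist (h : Cx z R A) (k : Co0) :
    Cx z (fun v x => R (k • v) x) (fun g c => A (k * g * k⁻¹) c) :=
  ⟨h.mt.twist k, fun g c hg e => h.hB _ c (by
    rw [conj_mul, hg, CL.Co1T.neg1_comm, mul_inv_cancel_right]) e⟩

theorem mt_conj {Q : Subgroup G} (h : MT z Q R A) (g : G) :
    MT (g * z * g⁻¹) (g •ᶜ Q) (fun v x => R v (g⁻¹ * x * g)) (fun k c => A k (g⁻¹ * c * g)) := by
  have := CL.Y5.mt_comap h (MulAut.conj g).symm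
  have e : Q.comap (MulAut.conj g).symm.toMonoidHom = g •ᶜ Q := by
    ext x; rw [mem_cj]; rfl
  rw [e] at this
  exact this

theorem Mo.QQ_conj [Finite G] (h : Mo z) (g : G) : QQ (g * z * g⁻¹) = g •ᶜ QQ z :=
  let ⟨_, _, h⟩ := h; QQ_eq (mt_conj h.mt g)

theorem Cx.conj [Finite G] (h : Cx z R A) (g : G) :
    Cx (g * z * g⁻¹) (fun v x => R v (g⁻¹ * x * g)) (fun k c => A k (g⁻¹ * c * g)) :=
  ⟨h.mo.QQ_conj g ▸ mt_conj h.mt g, fun k c hk e h2 => h.hB k _ hk e (by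
    rw [show g⁻¹ * c * g * (g⁻¹ * c * g) = g⁻¹ * (c * c) * g by group, h2]; group)⟩

theorem Mo.conj [Finite G] (h : Mo z) (g : G) : Mo (g * z * g⁻¹) :=
  let ⟨_, _, h⟩ := h; (h.conj g).mo

theorem Mo.of_isConj [Finite G] (h : Mo z) {y : G} (e : IsConj z y) : Mo y := by
  obtain ⟨g, rfl⟩ := isConj_iff.1 e; exact h.conj g

theorem Mo.mem_conj [Finite G] (h : Mo z) {g x : G} :
    g * x * g⁻¹ ∈ QQ (g * z * g⁻¹) ↔ x ∈ QQ z := by
  rw [h.QQ_conj, mem_cj]; simp [mul_assoc]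

/-- an element conjugating `z` to `y` carries `QQ z` into `QQ y` -/
theorem Mo.conj_mem [Finite G] (h : Mo z) {g x y : G} (e : g * z * g⁻¹ = y) (hx : x ∈ QQ z) :
    g * x * g⁻¹ ∈ QQ y := e ▸ h.mem_conj.2 hx

theorem Mo.lx (h : Mo z) : LX (QQ z) z := let ⟨_, _, h⟩ := h; h.mt.lx

theorem Mo.sq (h : Mo z) : z * z = 1 := h.lx.z_sq

theorem Mo.ne_one (h : Mo z) : z ≠ 1 := h.lx.z_ne

theorem Mo.self_mem (h : Mo z) : z ∈ QQ z := h.lx.z_mem

theorem Mo.comm (h : Mo z) {x : G} (hx : x ∈ QQ z) : x * z = z * x := h.lx.z_comm x hx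

theorem Mo.norm (h : Mo z) {c x : G} (hc : c * z = z * c) (hx : x ∈ QQ z) : c * x * c⁻¹ ∈ QQ z :=
  h.lx.norm c hc x hx

theorem Mo.symm [Finite G] (h : Mo z) {s : G} (e : IsConj z s) (hs : s ∈ QQ z) : z ∈ QQ s := by
  obtain ⟨g, rfl⟩ := isConj_iff.1 e
  obtain ⟨_, _, k⟩ := id h
  rw [h.QQ_conj]
  exact h.lx.symm_of_card k.mt.eight_lt hs

/-- elements common to two of the extraspecial groups commute and square to `1` -/
theorem Mo.inf_comm {s : G} (h : Mo z) (h' : Mo s) (e : s ≠ z) {x y : G} (x1 : x ∈ QQ z)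
    (x2 : x ∈ QQ s) (y1 : y ∈ QQ z) (y2 : y ∈ QQ s) : x * y = y * x :=
  CL.MT.MT.inf_comm h.lx.toES h'.lx.toES e ⟨x1, x2⟩ ⟨y1, y2⟩

theorem Mo.inf_sq {s : G} (h : Mo z) (h' : Mo s) (e : s ≠ z) {x : G} (x1 : x ∈ QQ z)
    (x2 : x ∈ QQ s) : x * x = 1 :=
  CL.MT.MT.inf_sq h.lx.toES h'.lx.toES e ⟨x1, x2⟩

/-- every involution of `G` with a chart is conjugate into `QQ z` -/
theorem Cx.conj_into [Finite G] (h : Cx z R A) {s : G} (h2 : s * s = 1) :
    ∃ x, x * s * x⁻¹ ∈ QQ z := CL.MR.conj_into_Q h.mt h.hB h2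

/-- lifts of involutions square to `1` -/
theorem Cx.sq (h : Cx z R A) {k c} (hk : A k c) (h2 : c * c = 1) : k * k = 1 := by
  have := h.mt.A_mul hk hk
  rw [h2] at this
  exact (CL.Leech.mem_center_iff.1 ((h.mt.A_ker this).1 (one_mem _))).resolve_right
    fun e => h.hB k c e hk h2

/-- an element of odd order lies over an element of the same odd exponent -/
theorem Cx.odd_lift (h : Cx z R A) {b : G} (hb : b * z = z * b) {n : ℕ} (hn : Odd n)
    (h1 : b ^ n = 1) : ∃ k, A k b ∧ k ^ n = 1 := by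
  obtain ⟨k, hk⟩ := h.mt.ex_g b hb
  have := h.mt.A_pow hk n
  rw [h1] at this
  rcases CL.Leech.mem_center_iff.1 ((h.mt.A_ker this).1 (one_mem _)) with e | e
  · exact ⟨k, hk, e⟩
  · refine ⟨neg1 * k, h.mt.A_center hk neg1_mem_center, ?_⟩
    rw [Commute.mul_pow (CL.Co1T.neg1_comm k).symm, e, pow_odd_of_sq neg1_mul_self hn, neg1_mul_self]

/-- a nontrivial element of odd order does not lie over `±1` -/
theorem Cx.odd_ne (h : Cx z R A) {b : G} {n : ℕ} (hn : Odd n) (h1 : b ^ n = 1) {k : Co0}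
    (hk : A k b) (hc : k ∈ center Co0) : b = 1 := by
  have hq := (h.mt.A_ker hk).2 hc
  have h4 : b ^ 4 = 1 := by
    rw [show b ^ 4 = (b * b) * (b * b) by simp [pow_succ, mul_assoc]]
    rcases h.mt.lx.sq b hq with e | e <;> simp [e, h.mt.lx.z_sq]
  have := pow_gcd_eq_one.2 ⟨h4, h1⟩
  rwa [show Nat.gcd 4 n = 1 from (Nat.Coprime.pow_left 2 (Nat.coprime_two_left.2 hn)), pow_one] at this

theorem Cx.conj_of_64 (h : Cx z R A) {v s} (hs : R v s) (hv : sqNorm v.1 = 64) : IsConj z s :=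
  h.mt.conj_of_64 hs hv

section e8

variable [Finite G] (h : Cx z R A) {s : G} (hs : R (e8 none) s)
include h hs

theorem Cx.lifts_e8 : h.mt.lifts (QQ s) = Sgn := by
  obtain ⟨g, rfl⟩ := isConj_iff.1 (h.conj_of_64 hs (sqNorm_e8 _))
  rw [h.mo.QQ_conj]; exact h.mt.lifts_e8 hs

/-- with `s` over the standard frame, elements of `QQ s` fixing `z` lie over sign changes -/
theorem Cx.sgn {c k} (hc : c ∈ QQ s) (hk : A k c) : k ∈ Sgn := h.lifts_e8 hs ▸ ⟨c, hc, hk⟩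

theorem Cx.exists_of_sgn {k} (hk : k ∈ Sgn) : ∃ c ∈ QQ s, A k c := by
  rw [← h.lifts_e8 hs] at hk; exact hk

theorem Cx.four {v x} (hv : ∀ i, (4 : ℤ) ∣ v.1 i) (hx : R v x) : x ∈ QQ s := by
  obtain ⟨g, rfl⟩ := isConj_iff.1 (h.conj_of_64 hs (sqNorm_e8 _))
  rw [h.mo.QQ_conj]; exact four_mem_cj h.mt hs hv hx

theorem Cx.e8_ne : s ≠ 1 ∧ s ≠ z := CL.MP.e8_ne h.mt hs

theorem Cx.mo_e8 : Mo s := h.mo.of_isConj (h.conj_of_64 hs (sqNorm_e8 _))

theorem Cx.four_of {v x} (hx : R v x) (hxs : x ∈ QQ s) (hv : sqNorm v.1 ≤ 64) (i : GolayPt) :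
    (4 : ℤ) ∣ v.1 i := by
  have key : ∀ a b, (16 : ℤ) ∣ 4 * v.1 a + 4 * v.1 b := fun a b => by
    obtain ⟨f, hf⟩ := h.mt.ex_x (f44 a b)
    rw [← dot_f44, ← h.mt.comm_iff hx hf]
    exact h.mo.inf_comm (h.mo_e8 hs) (h.e8_ne hs).2 (h.mt.R_mem hx) hxs (h.mt.R_mem hf)
      (h.four hs (fun p => by rw [f44_apply]; split_ifs <;> norm_num) hf)
  by_contra hi
  have h1 : ∀ j, 4 ≤ v.1 j ^ 2 := fun j => by
    have a := key i i
    have b := key i j
    have : v.1 j ≤ -2 ∨ 2 ≤ v.1 j := by omega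
    rcases this with c | c <;> nlinarith
  have h2 : ∑ _j : GolayPt, (4 : ℤ) ≤ sqNorm v.1 := Finset.sum_le_sum fun j _ => h1 j
  rw [sum_const_pt] at h2
  omega

/-- triality: an element over `2a` for the chart at `z` lies, in a chart at `s`, over the sign
change of the codeword `a mod 2` or of its complement -/
theorem Cx.tri {v q} {a : GolayPt → ℤ} (hv : R v q) (ha : ∀ i, v.1 i = 2 * a i) :
    ∃ R' A' c k, Cx s R' A' ∧ R' (e8 none) z ∧ A' k q ∧ Mn k 1 (sg c) ∧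
      (c = red a ∨ c = red a + 1) := by
  have hL := h.lifts_e8 hs
  obtain ⟨g, hg⟩ := isConj_iff.1 (h.conj_of_64 hs (sqNorm_e8 _))
  have hp : Pair (QQ z) (QQ s) z s := by
    have := h.mt.lx.pair (g := g) (hg ▸ h.mt.R_mem hs)
      (h.mt.lx.symm_of_card h.mt.eight_lt (hg ▸ h.mt.R_mem hs)) (hg ▸ (h.e8_ne hs).2)
    rwa [← h.mo.QQ_conj, hg] at this
  obtain ⟨q', hq, q1, q2⟩ := hp.exists_q
  obtain ⟨p, hp', p1, p2⟩ := hp.symm.exists_q
  have t1 : (q' * p * q'⁻¹) * z * (q' * p * q'⁻¹)⁻¹ = s :=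
    calc _ = q' * (p * (q'⁻¹ * (q' * z * q'⁻¹) * q') * p⁻¹) * q'⁻¹ := by rw [q1]; group
      _ = (q' * z * q'⁻¹) * (q' * s * q'⁻¹) := by
        rw [show q'⁻¹ * (q' * z * q'⁻¹) * q' = z by group, p2]; group
      _ = s := by rw [q1, q2, ← hp.zs, ← mul_assoc, hp.hQ.z_sq, one_mul]
  have t2 : (q' * p * q'⁻¹) * s * (q' * p * q'⁻¹)⁻¹ = z :=
    calc _ = q' * (p * (q'⁻¹ * ((q' * s * q'⁻¹) * (q' * z * q'⁻¹)) * q') * p⁻¹) * q'⁻¹ := by
          rw [q1, q2, mul_assoc s, hp.hQ.z_sq]; group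
      _ = q' * ((p * s * p⁻¹) * (p * z * p⁻¹)) * q'⁻¹ := by group
      _ = z := by rw [p1, p2, hp.zs, ← mul_assoc s, hp.hP.z_sq, one_mul, q1]
  have t4 : Tr (QQ z) (QQ s) z s (q' * p * q'⁻¹)⁻¹ := by
    rw [mul_inv_rev, mul_inv_rev, inv_inv]
    exact (tr_Q hp hq).mul hp ((tr_P hp (inv_mem hp')).mul hp (tr_Q hp (inv_mem hq)))
  generalize q' * p * q'⁻¹ = τ at t1 t2 t4
  obtain ⟨c, k, k1, k2, k3⟩ := over_sgn h.mt hp hs hL t2 (by rw [← h.mo.QQ_conj, t1]) t4 hv ha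
  have := h.conj τ⁻¹
  rw [show τ⁻¹ * z * τ⁻¹⁻¹ = s by rw [← t2]; group] at this
  exact ⟨_, _, c, k, this, by rw [inv_inv, t1]; exact hs, by rw [inv_inv]; exact k1, k2, k3⟩

end e8

theorem pm_e8_of_cong {μ : leechLattice} (h64 : sqNorm μ.1 = 64) (hc : Cong μ (e8 none)) :
    ∃ i, μ = e8 i ∨ μ = -e8 i :=
  (mem_stdCross_iff μ).1 (show μ ∈ stdX by rw [stdX_eq_class none]; exact ⟨h64, hc.symm⟩)

section frame

variable [Finite G] (h : Cx z R A) {s : G} {σ : leechLattice} (hs : R σ s) (hσ : sqNorm σ.1 = 64)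
include h hs hσ

/-- a chart in which `s` lies over the standard frame -/
theorem Cx.exists_twist : ∃ k : Co0, Cong (k • e8 none) σ ∧ R (k • e8 none) s :=
  let ⟨k, hk⟩ := exists_smul_cong (sqNorm_e8 none) hσ; ⟨k, hk, h.mt.R_of_cong hs hk.symm⟩

/-- elements of `QQ s` fixing `z` fix the frame of `s` vectorwise up to sign -/
theorem Cx.pm {c g} (hc : c ∈ QQ s) (hg : A g c) {μ : leechLattice} (h64 : sqNorm μ.1 = 64)
    (hμ : Cong μ σ) : g • μ = μ ∨ g • μ = -μ := by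
  obtain ⟨k, hk, hs'⟩ := h.exists_twist hs hσ
  have h1 : k⁻¹ * g * k ∈ Sgn := (h.twist k).sgn hs' hc (by simpa [mul_assoc] using hg)
  obtain ⟨i, hi⟩ := pm_e8_of_cong (μ := k⁻¹ • μ) (by rw [sqNorm_smul, h64])
    (by simpa using (hμ.trans hk.symm).smul k⁻¹)
  have h2 : (k⁻¹ * g * k) • k⁻¹ • μ = k⁻¹ • μ ∨ (k⁻¹ * g * k) • k⁻¹ • μ = -(k⁻¹ • μ) := by
    rcases hi with e | e <;> rw [e] <;> rcases h1 i with e' | e' <;> simp [e', smul_neg]
  simpa [mul_smul, ← smul_neg] using h2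

theorem Cx.dot32 {v x} (hx : R v x) (hxs : x ∈ QQ s) (hv : sqNorm v.1 ≤ 64) {μ : leechLattice}
    (h64 : sqNorm μ.1 = 64) (hμ : Cong μ σ) : (32 : ℤ) ∣ dotInt v.1 μ.1 := by
  obtain ⟨k, hk, hs'⟩ := h.exists_twist hs hσ
  have h1 := (h.twist k).four_of hs' (v := k⁻¹ • v) (by simpa using hx) hxs (by rwa [sqNorm_smul])
  obtain ⟨i, hi⟩ := pm_e8_of_cong (μ := k⁻¹ • μ) (by rw [sqNorm_smul, h64])
    (by simpa using (hμ.trans hk.symm).smul k⁻¹)
  have := h1 i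
  rw [← dot_smul k⁻¹]
  rcases hi with e | e <;> rw [e]
  · rw [dot_e8]; omega
  · rw [AddSubgroup.coe_neg, dot_neg_right, dot_e8]; omega

theorem Cx.mem_of_dot {v x} (hx : R v x)
    (hv : ∀ μ : leechLattice, sqNorm μ.1 = 64 → Cong μ σ → (32 : ℤ) ∣ dotInt v.1 μ.1) :
    x ∈ QQ s := by
  obtain ⟨k, hk, hs'⟩ := h.exists_twist hs hσ
  refine (h.twist k).four hs' (v := k⁻¹ • v) (fun i => ?_) (by simpa using hx)
  have := hv (k • e8 i) (by rw [sqNorm_smul, sqNorm_e8]) (((cong_e8 i none).smul k).trans hk)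
  rw [← dot_smul k⁻¹, inv_smul_smul, dot_e8] at this
  omega

end frame

end CL.PA
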