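import Mathlib
import Cfsg.Agent.SPOR.PA.Def

/-! Minimal preimages, the uniqueness predicate `Un`, four-groups. -/

set_option autoImplicit false

namespace CL.PA

open Subgroup
open scoped commutatorElement

variable {G : Type*} [Group G]

/-- `π` is onto, and no proper subgroup maps onto -/
def Min {H X : Type*} [Group H] [Group X] (π : H →* X) : Prop :=
  Function.Surjective π ∧ ∀ K : Subgroup H, K.map π = ⊤ → K = ⊤

/-- a conjugate `y ≠ z` of `z` in `QQ z` with `s ∈ QQ y` is unique up to `z` -/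
def Un (z s : G) : Prop :=
  ∀ y y', IsConj z y → IsConj z y' → y ≠ z → y' ≠ z → y ∈ QQ z → y' ∈ QQ z → s ∈ QQ y →
    s ∈ QQ y' → y' = y ∨ y' = y * z

/-- the nontrivial elements of the four-group -/
def V3 (z s x : G) : Prop := x = z ∨ x = s ∨ x = z * s

/-- the elements of the four-group -/
def V4 (z s x : G) : Prop := x = 1 ∨ V3 z s x

theorem V3.map {K : Type*} [Group K] (η : G →* K) {z s x : G} (h : V3 z s x) :
    V3 (η z) (η s) (η x) := by
  rcases h with rfl | rfl | rfl <;> simp [V3]

theorem V4.map {K : Type*} [Group K] (η : G →* K) {z s x : G} (h : V4 z s x) :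
    V4 (η z) (η s) (η x) := h.imp (fun e => by rw [e, map_one]) (V3.map η)

theorem V4.mem {z s x : G} (h : V4 z s x) {P : Subgroup G} (hz : z ∈ P) (hs : s ∈ P) : x ∈ P := by
  rcases h with rfl | rfl | rfl | rfl
  exacts [one_mem _, hz, hs, mul_mem hz hs]

/-- `g x g⁻¹` -/
abbrev cj (g x : G) : G := g * x * g⁻¹

/-- products of four elements with exponents `0`, `1` -/
def pd (x : Fin 4 → G) (e : Fin 4 → Fin 2) : G :=
  x 0 ^ (e 0).val * x 1 ^ (e 1).val * x 2 ^ (e 2).val * x 3 ^ (e 3).val

theorem map_cj {K : Type*} [Group K] (η : G →* K) (g x : G) : η (cj g x) = cj (η g) (η x) := by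
  simp [cj]

theorem map_pd {K : Type*} [Group K] (η : G →* K) (x : Fin 4 → G) (e : Fin 4 → Fin 2) :
    η (pd x e) = pd (fun i => η (x i)) e := by simp [pd]

end CL.PA
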