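import Mathlib
import Cfsg.Agent.SPOR.PA.Cfg

/-! The configuration in the third Janko group. -/

set_option autoImplicit false

namespace CL.PA

open Subgroup
open scoped commutatorElement

variable {G : Type*} [Group G]

/-- Relations in `N(V) = 2^{2+4}:(3 × S3)` and around it, `V = ⟨z, s⟩`: `n ^ 3` rotates `V`, `w`
centralizes it, `x 0, …, x 3` generate `2^{2+4}` modulo `V`, `cj h s` lies in `O₂(C(z))`. -/
structure CfJ (z s w n g g' h h1 h2 h3 h4 k1 k2 : G) (x : Fin 4 → G) : Prop where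
  zz : z * z = 1
  zs : z * s = s * z
  nz : cj (n ^ 3) z = s
  ns : cj (n ^ 3) s = z * s
  n9 : (n ^ 3) ^ 3 = 1
  big : (z * cj g z) ^ 4 = cj g' z
  hz : h * z = z * h
  rs : cj (cj h s) s = z * s
  h1s : h1 * s = s * h1
  h2s : h2 * s = s * h2
  h3s : h3 * s = s * h3
  h4s : h4 * s = s * h4
  az : cj h1 z * cj h2 z * z = z * (cj h1 z * cj h2 z)
  bz : cj h3 z * cj h4 z * z = z * (cj h3 z * cj h4 z)
  rab : ⁅⁅cj h s, cj h1 z * cj h2 z⁆, cj h3 z * cj h4 z⁆ = s ∨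
    ⁅⁅cj h s, cj h1 z * cj h2 z⁆, cj h3 z * cj h4 z⁆ = s * z
  w3 : w ^ 3 = 1
  wz : w * z = z * w
  ws : w * s = s * w
  wn : w * n ^ 3 = n ^ 3 * w
  xz : ∀ i, x i * z = z * x i
  xs : ∀ i, x i * s = s * x i
  x3 : ∀ i, V4 z s (x i * cj w (x i) * cj w (cj w (x i)))
  sq : ∀ i, V4 z s (x i * x i)
  cm : ∀ i j, V4 z s ⁅x i, x j⁆
  pr : ∀ e, e ≠ 0 → V3 z s ⁅pd x e, cj w (pd x e)⁆ ∨ V3 z s ⁅pd x e, cj (cj h s) (pd x e)⁆
  w1 : V3 z s (⁅x 0, cj w (x 2)⁆ * ⁅x 0, x 2⁆⁻¹)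
  k1z : cj k1 (w * n ^ 3) * z = z * cj k1 (w * n ^ 3)
  k1s : cj k1 (w * n ^ 3) * s = s * cj k1 (w * n ^ 3)
  k2z : cj k2 (w ^ 2 * n ^ 3) * z = z * cj k2 (w ^ 2 * n ^ 3)
  k2s : cj k2 (w ^ 2 * n ^ 3) * s = s * cj k2 (w ^ 2 * n ^ 3)

theorem CfJ.map {K : Type*} [Group K] (η : G →* K) {z s w n g g' h h1 h2 h3 h4 k1 k2 : G}
    {x : Fin 4 → G} (c : CfJ z s w n g g' h h1 h2 h3 h4 k1 k2 x) :
    CfJ (η z) (η s) (η w) (η n) (η g) (η g') (η h) (η h1) (η h2) (η h3) (η h4) (η k1) (η k2)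
      fun i => η (x i) := by
  refine ⟨?_, ?_, ?_, ?_, ?_, ?_, ?_, ?_, ?_, ?_, ?_, ?_, ?_, ?_, ?_, ?_, ?_, ?_, ?_, fun i => ?_,
    fun i => ?_, fun i => ?_, fun i => ?_, fun i j => ?_, fun e he => ?_, ?_, ?_, ?_, ?_, ?_⟩ <;>
    simp only [← map_pow, ← map_cj, ← map_mul, ← map_commutatorElement, ← map_pd, ← map_inv]
  · rw [c.zz, map_one]
  · rw [c.zs]
  · rw [c.nz]
  · rw [c.ns]
  · rw [c.n9, map_one]
  · rw [c.big]
  · rw [c.hz]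
  · rw [c.rs]
  · rw [c.h1s]
  · rw [c.h2s]
  · rw [c.h3s]
  · rw [c.h4s]
  · rw [c.az]
  · rw [c.bz]
  · exact c.rab.imp (congrArg η) (congrArg η)
  · rw [c.w3, map_one]
  · rw [c.wz]
  · rw [c.ws]
  · rw [c.wn]
  · rw [c.xz]
  · rw [c.xs]
  · exact (c.x3 i).map η
  · exact (c.sq i).map η
  · exact (c.cm i j).map η
  · exact (c.pr e he).imp (V3.map η) (V3.map η)
  · exact c.w1.map η
  · rw [c.k1z]
  · rw [c.k1s]
  · rw [c.k2z]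
  · rw [c.k2s]

end CL.PA
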