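import Mathlib
import Cfsg.Agent.SPOR.PA.Cfg

/-! An involution of `C(z)` lies in `QQ y` for a conjugate `y ≠ z` of `z` inside `QQ z`. -/

set_option autoImplicit false

namespace CL.PA

open Cfsg CL CL.Leech CL.LX CL.MSS CL.MT CL.MP CL.Rk Subgroup
open CL.MR
open CL.Co1T (pr dD pr_surj pr_eq_iff pr_eq_one cases_of_sq dod_dD)
open CL.E8C (t)
open CL.Gr (o3 cong_add_zero)
open CL.Golay (E O0)


variable {G : Type*} [Group G] [Finite G] {y z s : G} {R : leechLattice → G → Prop}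
  {A : Co0 → G → Prop}

/-- some conjugate of `u` under `C(z)` lies in the extraspecial group over the standard frame -/
def Into (z : G) (Q : Subgroup G) (R : leechLattice → G → Prop) (u : G) : Prop :=
  ∃ c g, c * z = z * c ∧ R (e8 none) (g * z * g⁻¹) ∧ c * u * c⁻¹ ∈ g •ᶜ Q

variable {Q : Subgroup G}

omit [Finite G] in
theorem Into.of_conj {u d : G} (hd : d * z = z * d) (h : Into z Q R (d * u * d⁻¹)) : Into z Q R u :=
  let ⟨c, g, a, b, e⟩ := h
  ⟨c * d, g, (show Commute c z from a).mul_left hd, b, by convert e using 1; group⟩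

theorem into_of (h : MT z Q R A) {g : G} (hs : R (e8 none) (g * z * g⁻¹)) {k u y} (hu : A k u)
    (hP : y ∈ g •ᶜ Q) {ρ w e : leechLattice} (hr : R ρ (u * y⁻¹)) (he : ∀ i, (4 : ℤ) ∣ e.1 i)
    (hc : Cong (w + k • w + ρ) e) : Into z Q R u := by
  obtain ⟨x, hx⟩ := h.ex_x w
  have h1 := four_mem_cj h hs he
    (h.R_of_cong (h.R_mul (h.R_mul (h.R_inv hx) (h.R_conj hu hx)) hr) hc)
  exact ⟨x⁻¹, g, h.lx.z_comm _ (inv_mem (h.R_mem hx)), hs, by
    convert mul_mem h1 hP using 1; group⟩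

theorem into_dod (h : MT z Q R A) {u} (hu : A (sgn dD) u) (h2 : u * u = 1) : Into z Q R u := by
  obtain ⟨g, y, hs, hy, hA, y2⟩ : ∃ g y, R (e8 none) (g * z * g⁻¹) ∧ y ∈ g •ᶜ Q ∧ A (sgn dD) y ∧
      y * y = 1 := by
    obtain ⟨g, y, hs, hy, hA⟩ := exists_P h dD
    have hP := h.lx.conj g
    rcases hP.sq y hy with e | e
    · exact ⟨g, y, hs, hy, hA, e⟩
    obtain ⟨f, hf⟩ := h.ex_x (f44 (some 0) (some 5))
    refine ⟨g, y * f, hs, mul_mem hy (f44_mem h hs hf),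
      by simpa using h.A_mul hA (h.A_one (h.R_mem hf)), ?_⟩
    rw [hP.mul_sq_of_not_comm hy (f44_mem h hs hf) fun ec => ?_, e,
      (h.sq_iff hf).2 (by rw [sqNorm_f44 (by decide)]), mul_one, hP.z_sq]
    have := (cong_of_comm h hA hf ec).dvd_dot o3
    rw [← dot_smul (sgn dD), ← mul_smul, Sgn_sq (sgn_mem _), one_smul, dot_comm, dot_f44,
      dot_comm, dot_f44, sgn_apply, sgn_apply] at this
    revert this
    decide +kernel
  obtain ⟨ρ, hr⟩ := exists_r h hu hA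
  obtain ⟨w, hw⟩ := dod_lat (cong_of_invol h hA h2 y2 hr)
  exact into_of h hs hu hy hr (e := 0) (by simp) (cong_add_zero.2 hw.symm)

theorem into_oct (h : MT z Q R A) {u} (hu : A t u) (h2 : u * u = 1) : Into z Q R u := by
  obtain ⟨p, y, Y⟩ := exists_y h
  obtain ⟨v, hv⟩ := exists_r h hu Y.hy
  have c1 := cong_of_invol h Y.hy h2 Y.sq hv
  have c2 : Commute (u * y⁻¹) y := Y.cent _ (h.R_mem hv) fun x ⟨a, ha, hx⟩ =>
    (h.comm_iff hv hx).2 (dvd_of_fix c1 ha)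
  have c3 : u * y⁻¹ * (u * y⁻¹) = 1 := by
    have := c2.symm.mul_mul_mul_comm (u * y⁻¹) y
    rwa [inv_mul_cancel_right, h2, Y.sq, mul_one, eq_comm] at this
  obtain ⟨k, hk, e⟩ := tr_lat c1 ((h.sq_iff hv).1 c3)
  obtain ⟨c, hc⟩ := h.ex_c k
  have hu' := h.A_mul (h.A_mul hc hu) (h.A_inv hc)
  rw [mem_centralizer_singleton_iff.1 hk, mul_inv_cancel_right] at hu'
  obtain ⟨g, y1, hs, hy1, hA⟩ := exists_P h E8C.cT
  obtain ⟨ρ, hr⟩ := exists_r h hu' hA
  obtain ⟨w, e, he, hc'⟩ := oct_lat (ρ := ρ) fun i j _ hO => by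
    obtain ⟨f, hf⟩ := h.ex_x (f44 i j)
    have a1 : y1 * f * y1⁻¹ = f := by
      rcases (h.lx.conj g).conj_cases (f44_mem h hs hf) hy1 with a | a
      · exact a
      rcases h.cases_of hf (h.R_of_cong (h.R_conj hA hf) (t_f44 hO)) with b | b
      · exact b
      · exact absurd (mul_left_cancel (a.symm.trans b)) (e8_ne h hs).2
    have a2 : Commute (c * (u * y⁻¹) * c⁻¹) f := (h.comm_iff (h.R_conj hc hv) hf).2 (e i j hO)
    have a3 : Commute (c⁻¹ * f * c⁻¹⁻¹) y := Y.cent _ (h.R_mem (h.R_conj (h.A_inv hc) hf))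
      fun x ⟨a, ha, hx⟩ => (h.comm_iff (h.R_conj (h.A_inv hc) hf) hx).2 (by
        rw [← dot_smul k, smul_inv_smul]; exact dvd_f44 (E8C.smul_L hk ha) hO)
    have a4 : Commute (c * y * c⁻¹) f := by
      simpa [mul_assoc] using (a3.map (MulAut.conj c)).symm
    have a5 : Commute (c * u * c⁻¹) f := by simpa [mul_assoc] using a2.mul_left a4
    exact (h.comm_iff hr hf).1 (a5.mul_left (Commute.inv_left (mul_inv_eq_iff_eq_mul.1 a1)))
  exact (into_of h hs hu' hy1 hr he hc').of_conj (h.A_comm hc)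

theorem Cx.ex (h : Cx z R A) (h2 : s * s = 1) (hc : s * z = z * s) (hn : s ∉ QQ z) :
    ∃ y, IsConj z y ∧ y ∈ QQ z ∧ y ≠ z ∧ s ∈ QQ y := by
  obtain ⟨k, hk⟩ := h.mt.ex_g s hc
  have red : ∀ {k'}, (∃ m, m * Co1T.pr k * m⁻¹ = Co1T.pr k') →
      (∀ u, A k' u → u * u = 1 → Into z (QQ z) R u) → Into z (QQ z) R s := by
    rintro k' ⟨m, hm⟩ H
    obtain ⟨m, rfl⟩ := pr_surj m
    obtain ⟨d, hd⟩ := h.mt.ex_c m
    have h1 := h.mt.A_mul (h.mt.A_mul hd hk) (h.mt.A_inv hd)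
    rw [← map_inv, ← map_mul, ← map_mul, eq_comm, pr_eq_iff] at hm
    exact (H (d * s * d⁻¹) (by
      rcases hm with e | e <;> rw [e]
      exacts [h1, h.mt.A_center h1 neg1_mem_center])
      (by rw [conj_mul, h2, mul_one, mul_inv_cancel])).of_conj (h.mt.A_comm hd)
  obtain ⟨c, g, a, b, e⟩ : Into z (QQ z) R s := by
    rcases cases_of_sq (h.sq hk h2) with a | a | a
    · exact absurd ((h.mt.A_ker hk).2 (MT.mem_center_iff.2 (pr_eq_one.1 a))) hn
    · exact red (a.exists_conj E8C.oct_t.ca) fun u => into_oct h.mt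
    · exact red (a.exists_conj dod_dD.cc) fun u => into_dod h.mt
  refine ⟨c⁻¹ * g * z * (c⁻¹ * g)⁻¹, isConj_iff.2 ⟨_, rfl⟩, ?_, fun e' => (h.e8_ne b).2 ?_, ?_⟩
  · convert h.mt.lx.norm' a (h.mt.R_mem b) using 1; group
  · calc _ = c * (c⁻¹ * g * z * (c⁻¹ * g)⁻¹) * c⁻¹ := by group
      _ = z := by rw [e', a, mul_inv_cancel_right]
  · rw [h.mo.QQ_conj, mem_cj]
    convert mem_cj.1 e using 1; group

end CL.PA
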