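import Mathlib
import Cfsg.Agent.SPOR.PA.Def
import Cfsg.Agent.SPOR.MP.RowBase

/-! Global facts on the involutions of the Monster. -/

set_option autoImplicit false

namespace CL.PA

open Cfsg CL CL.Leech CL.LX CL.MSS CL.MT CL.MP CL.Rk CL.MO CL.Gr Subgroup

/-- `z` is a `2B` involution of a group with the order and the involution structure of the Monster;
the involutions not conjugate to `z` are the `2A` involutions -/
structure Glob {G : Type*} [Group G] (z : G) : Prop where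
  mo : Mo z
  card : Nat.card G = 808017424794512875886459904961710757005754368000000000
  six : ∀ s t : G, s * s = 1 → t * t = 1 → s ≠ 1 → t ≠ 1 → ¬ IsConj z s → ¬ IsConj z t →
    orderOf (s * t) ≤ 6
  cardA : ∀ t : G, t * t = 1 → t ≠ 1 → ¬ IsConj z t →
    Nat.card (centralizer ({t} : Set G)) = 2 * 4154781481226426191177580544000000
  cardB : ∀ t : G, IsConj z t →
    Nat.card (centralizer ({t} : Set G)) = 2 ^ 25 * 4157776806543360000
  rank : ∀ E : Subgroup G, (∀ x ∈ E, ∀ y ∈ E, x * y = y * x) → (∀ x ∈ E, x * x = 1) →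
    Nat.card E ≤ 2 ^ 15
  rankA : ∀ t : G, t * t = 1 → t ≠ 1 → ¬ IsConj z t → ∀ E : Subgroup G, (∀ x ∈ E, x * t = t * x) →
    (∀ x ∈ E, x * x = 1 ∨ x * x = t) → (∀ x ∈ E, ∀ y ∈ E, x * y = y * x ∨ x * y = y * x * t) →
    Nat.card E ≤ 2 ^ 15

variable {G : Type*} [Group G] {z : G}

theorem Glob.finite (h : Glob z) : Finite G := Nat.finite_of_card_ne_zero (by rw [h.card]; norm_num)

/-- an involution with a conjugate product of order more than six is a `2B` involution -/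
theorem Glob.mo_of (h : Glob z) {s g : G} (h2 : s * s = 1) (h6 : 6 < orderOf (s * (g * s * g⁻¹))) :
    Mo s := by
  have := h.finite
  refine h.mo.of_isConj (by_contra fun hn => h6.not_ge ?_)
  have h1 : s ≠ 1 := by rintro rfl; simp at h6
  exact h.six _ _ h2 (by rw [conj_mul, h2, mul_one, mul_inv_cancel]) h1 (by simpa using h1) hn
    fun e => hn (e.trans (isConj_iff.2 ⟨g, rfl⟩).symm)

theorem cx_GG (P : Pk ℝ) : Cx (zz P) (P.dat.R kR) (P.dat.A kR) := by
  refine ⟨(QQ_eq (mt P)).symm ▸ mt P, fun k c hk ⟨m, o, a⟩ e => ?_⟩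
  have a2 := a.mul two_ne_zero a
  rw [hk, ← Subgroup.coe_mul, e, ← mul_one neg1] at a2
  exact CL.MR.not_ov two_ne_zero hk o
    (a2.eq_right two_ne_zero ((Gr.Dat.acts_one two_ne_zero).neg two_ne_zero))

theorem glob_GG (P : Pk ℝ) : Glob (zz P) := by
  have hD : ∀ {t : GG P}, t * t = 1 → t ≠ 1 → ¬ IsConj (zz P) t → t ∈ DD P := fun h2 h1 hn =>
    (CL.MR.two_classes h2 h1).resolve_right hn
  have hc : ∀ (g t : GG P), Nat.card (centralizer ({g * t * g⁻¹} : Set (GG P))) =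
      Nat.card (centralizer ({t} : Set (GG P))) := fun g t => by
    rw [← cj_centralizer_singleton, card_map_of_injective (MulAut.conj g).injective]
  refine ⟨(cx_GG P).mo, card_GG P, fun s t s2 t2 s1 t1 a b =>
    (sys.order_le (hD s2 s1 a) (hD t2 t1 b)).2, fun t t2 t1 a => card_cent_DD (hD t2 t1 a),
    fun t a => ?_, fun E h1 h2 => rank_le (mt P) (by rw [card_GG]; norm_num) E
      ⟨⟨fun a b => Subtype.ext (h1 _ a.2 _ b.2)⟩⟩ fun a ha => by rw [pow_two, h2 a ha],
    fun t t2 t1 a E h1 h2 h3 => ?_⟩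
  · obtain ⟨g, rfl⟩ := isConj_iff.1 a
    rw [hc, card_cent_of_mt (mt P)]
  · obtain ⟨x, hx⟩ := (mt P).ex_x (w4 (some 4) (some 16) true)
    have hx' := mem_DD_of_R hx norm_w4
    obtain ⟨g, rfl⟩ := isConj_iff.1 (IsConj.trans (IsConj.symm (hD t2 t1 a)) hx')
    rw [← card_map_of_injective (f := (MulAut.conj g).toMonoidHom) (MulAut.conj g).injective]
    refine rank_le_cent (mt P) hx (by rw [card_cent_DD hx']; norm_num) ?_ ?_ ?_
    · rintro _ ⟨y, hy, rfl⟩
      show g * y * g⁻¹ * _ = _ * (g * y * g⁻¹)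
      rw [conj_mul, conj_mul, h1 y hy]
    · rintro _ ⟨y, hy, rfl⟩
      show g * y * g⁻¹ * (g * y * g⁻¹) = 1 ∨ g * y * g⁻¹ * (g * y * g⁻¹) = _
      rw [conj_mul]
      rcases h2 y hy with e | e <;> simp [e]
    · rintro _ ⟨y, hy, rfl⟩ _ ⟨w, hw, rfl⟩
      show g * y * g⁻¹ * (g * w * g⁻¹) = g * w * g⁻¹ * (g * y * g⁻¹) ∨
        g * y * g⁻¹ * (g * w * g⁻¹) = g * w * g⁻¹ * (g * y * g⁻¹) * _
      rw [conj_mul, conj_mul, conj_mul]
      rcases h3 y hy w hw with e | e <;> simp [e]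

/-- every subgroup of the Monster embeds in a group with `Glob` -/
theorem exists_glob : ∃ (G : Type) (_ : Group G) (z : G), Glob z ∧ Nonempty (Spor.Monster ≃* G) :=
  ⟨GG P0, inferInstance, zz P0, glob_GG P0, ⟨isoM⟩⟩

end CL.PA
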