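import Mathlib
import Cfsg.Agent.SPOR.PA.Cfg

/-! Double commutators of an element over an odd vector with two sign changes. -/

set_option autoImplicit false

namespace CL.PA

open Cfsg CL CL.Leech CL.LX CL.MSS CL.MT CL.MP CL.Rk Subgroup
open scoped commutatorElement


variable {G : Type*} [Group G] [Finite G] {y z s : G} {R : leechLattice → G → Prop}
  {A : Co0 → G → Prop}

theorem j1_lat {v : leechLattice} (hv : ¬ (2 : ℤ) ∣ v.1 none) (d d' : Golay.Code) :
    ¬ Cong (sgn d' • (sgn d • v - v) - (sgn d • v - v)) (e8 none) := fun hc => by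
  obtain ⟨m, -, hm, -⟩ := (mem_iff' _).1 v.2
  have h1 : ∀ i, v.1 i % 2 = 1 := fun i => by have := hm i; have := hm none; omega
  have h2 : ∀ i, (sgn d' • (sgn d • v - v) - (sgn d • v - v)).1 i =
      4 * if i ∈ d.1 ∩ d'.1 then v.1 i else 0 := fun i => by
    simp only [AddSubgroup.coe_sub, Pi.sub_apply, sgn_apply, Finset.mem_inter]
    by_cases a : i ∈ d.1 <;> by_cases b : i ∈ d'.1 <;> simp [a, b]
    ring
  have h3 := cong4 h2 (b := Pi.single none 2) (fun i => by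
    rw [coe_e8, Pi.single_apply, Pi.single_apply]; split_ifs <;> rfl) hc
  rw [show red (Pi.single none 2) = 0 from funext fun i => by revert i; decide, add_zero,
    red_eq_ind (s := d.1 ∩ d'.1) (fun i => by split_ifs with a <;> simp [a, h1]),
    ← mem_supports_iff] at h3
  have h4 : Cong (e8 none) 0 := hc.symm.trans ⟨v - sgn ⟨_, h3⟩ • v, Subtype.ext (funext fun i => by
    rw [sub_zero, h2, two_nsmul]
    simp only [AddSubgroup.coe_add, AddSubgroup.coe_sub, Pi.add_apply, Pi.sub_apply, sgn_apply]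
    split_ifs <;> ring)⟩
  have := h4.norm_eq (by rw [sqNorm_e8]) (by simp [sqNorm_zero])
  simp [sqNorm_e8, sqNorm_zero] at this

theorem j1 (h : Mo z) {r a b : G} (hs : IsConj z s) (hne : s ≠ z) (hQ : s ∈ QQ z) (hr : r ∈ QQ z)
    (hrs : r * s ≠ s * r) (ha : a ∈ QQ s) (hb : b ∈ QQ s) (az : a * z = z * a) (bz : b * z = z * b)
    (e : ⁅⁅r, a⁆, b⁆ = s ∨ ⁅⁅r, a⁆, b⁆ = s * z) : False := by
  obtain ⟨R, A, c, h8⟩ : ∃ R A, Cx z R A ∧ R (e8 none) s := by
    obtain ⟨R, A, c⟩ := h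
    obtain ⟨v, hv, h64⟩ := c.mt.norm_of_conj hQ hs hne
    obtain ⟨k, -, hk⟩ := c.exists_twist hv h64
    exact ⟨_, _, c.twist k, hk⟩
  obtain ⟨v, hv⟩ := c.mt.ex_v r hr
  have key : ∀ {a}, a ∈ QQ s → a * z = z * a → ∃ d, ∀ {u x}, R u x → R (sgn d • u - u) ⁅x, a⁆ :=
    fun ha az => by
      obtain ⟨k, hk⟩ := c.mt.ex_g _ az
      obtain ⟨d, rfl⟩ := exists_sgn (c.sgn h8 ha hk)
      exact ⟨d, fun hu => by
        rw [← commutatorElement_inv]; exact c.mt.R_inv (R_comm c.mt hk hu)⟩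
  obtain ⟨d, hd⟩ := key ha az
  obtain ⟨d', hd'⟩ := key hb bz
  refine j1_lat (v := v) (fun h2 => hrs ((c.mt.comm_iff hv h8).2 ?_)) d d'
    ((c.mt.R_cong h8 (hd' (hd hv))).2 e).symm
  rw [dot_e8]; omega

end CL.PA
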