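import Mathlib
import Cfsg.Agent.SPOR.PA.Cfg
import Cfsg.Agent.SPOR.PA.Lat

/-! (S2198.) Chart at `y`, `z` over `e8 none`, `s` over `sA`, so `z * s` lies over `sB`
(`cong_sB`); `y ∈ QQ z, QQ s, QQ (z * s)` by `Mo.symm`.
`a1`: `x` commutes with `y` (`Mo.inf_comm` for `z`, `s`), its lift `k` is `sgn c` (`Cx.sgn`) and fixes every
`fA j` up to sign (`Cx.pm`), so `c ∈ {∅, univ}` (each support of an `fA j` lies inside or outside `c`; the
supports connect all points), `x ∈ QQ y`.  Take a short vector `v` under `x` (`exists_short'`):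
`x * x = 1` (`Mo.inf_sq`) excludes norm 48; norm 32 with `4 ∣ v i` (`Cx.four_of`) means shape `(±4, ±4)`, and
no such vector has all products with `fA j`, `fB j` divisible by 32 (`Cx.dot32`; `decide +kernel` over
pairs); norm 0 gives `x ∈ {1, y}`, norm 64 `conj_of_64`.
Elements `y'` over `4·1_T` for the tetrads `T = {0,1,2,14}, {0,1,3,5}, {0,2,3,17}` of `OO` lie in `QQ z`
(`Cx.four`), `QQ s`, `QQ (z * s)` (`Cx.mem_of_dot`, `cross_A`, `cross_B`), and are conjugate to `y`.
`not_un`: `y` and such a `y'` contradict `Un` (`Mo.symm`; `y' ∉ {y, y z, z}` by `R_cong`, `cong4`).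
`a3`: `w` commutes with `y` and the three `y'`; odd lift `k = mono π c` (`Cx.odd_lift`), `π^3 = 1`;
`cong2` gives `π OO = OO`, `cong4` gives `π T ∈ {T, OO \\ T}`, so `π T = T` (order 3); the three tetrads
separate the points of `OO`, so `π` fixes 8 points, `π = 1` (`Golay.ord3_class`: 6 or 0 fixed points, or
`fix_pairs`-type lemmas: the pointwise stabiliser of an octad has order 16), `k ∈ Sgn`, `k = 1`, `Cx.odd_ne`. -/

set_option autoImplicit false

namespace CL.PA

open Cfsg CL CL.Leech CL.LX CL.MSS CL.MT CL.MP CL.Rk Subgroup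
open scoped commutatorElement


namespace TA

theorem sgn_center {c : Golay.Code} (h : ∀ p, p ∈ c.1 ↔ none ∈ c.1) : sgn c ∈ center Co0 := by
  rw [CL.MT.mem_center_iff]
  by_cases e : none ∈ c.1
  · exact Or.inr (co_ext fun v => Subtype.ext (funext fun i => by
      rw [sgn_apply, if_pos ((h i).2 e), neg1_smul]; rfl))
  · exact Or.inl (co_ext fun v => Subtype.ext (funext fun i => by
      rw [sgn_apply, if_neg (mt (h i).1 e), one_smul]))

theorem pm_mem {c : Golay.Code} {v : leechLattice} (h : sgn c • v = v ∨ sgn c • v = -v) {p q : GolayPt}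
    (hp : v.1 p ≠ 0) (hq : v.1 q ≠ 0) : p ∈ c.1 ↔ q ∈ c.1 := by
  have a := sgn_apply c v p
  have b := sgn_apply c v q
  rcases h with e | e <;> rw [e] at a b
  · split_ifs at a b <;> first | omega | tauto
  · rw [AddSubgroup.coe_neg, Pi.neg_apply] at a b
    split_ifs at a b <;> first | omega | tauto

/-- equality in `card_support_le_sum_sq` -/
theorem tight {b : GolayPt → ℤ} (h : ∑ i, b i ^ 2 ≤ (support₂ (red b)).card) (p : GolayPt) :
    b p ^ 2 = if p ∈ support₂ (red b) then 1 else 0 := by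
  have h1 : ∀ i ∈ (Finset.univ : Finset GolayPt),
      (if i ∈ support₂ (red b) then (1 : ℤ) else 0) ≤ b i ^ 2 := fun i _ => by
    split_ifs with e
    · rw [mem_support_red] at e
      have : b i ≤ -1 ∨ 1 ≤ b i := by omega
      rcases this with c | c <;> nlinarith
    · positivity
  refine ((Finset.sum_eq_sum_iff_of_le h1).1 (le_antisymm (Finset.sum_le_sum h1) ?_) p
    (Finset.mem_univ p)).symm
  simpa using h

theorem shape2 {b : GolayPt → ℤ} (h : ∑ i, b i ^ 2 = 2) : ∃ i j, i ≠ j ∧ (b i = 1 ∨ b i = -1) ∧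
    (b j = 1 ∨ b j = -1) ∧ ∀ p, p ≠ i → p ≠ j → b p = 0 := by
  have h1 := sum_sq_mod_four b
  have h2 := card_support_le_sum_sq b
  have h3 : (support₂ (red b)).card = 2 := by omega
  have h4 := tight (b := b) (by omega)
  obtain ⟨i, j, e, hS⟩ := Finset.card_eq_two.1 h3
  rw [hS] at h4
  refine ⟨i, j, e, by simpa using h4 i, by simpa using h4 j,
    fun p a c => by simpa [a, c] using h4 p⟩

theorem no32 {v : leechLattice} (h32 : sqNorm v.1 = 32) (h4 : ∀ i, (4 : ℤ) ∣ v.1 i)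
    (hA : ∀ k, (32 : ℤ) ∣ dotInt v.1 (fA k).1) (hB : ∀ k, (32 : ℤ) ∣ dotInt v.1 (fB k).1) : False := by
  choose b hb using h4
  obtain ⟨i, j, e, bi, bj, h0⟩ := shape2 (b := b) (by
    have : sqNorm v.1 = 16 * ∑ i, b i ^ 2 := by
      simp only [sqNorm, hb, Finset.mul_sum]
      exact Finset.sum_congr rfl fun i _ => by ring
    omega)
  have key : ∀ w : GolayPt → ℤ, dotInt v.1 w = 4 * (b i * w i + b j * w j) := fun w => by
    rw [dotInt, Finset.sum_eq_add_of_mem i j (Finset.mem_univ _) (Finset.mem_univ _) e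
      fun p _ hp => by rw [hb, h0 p hp.1 hp.2]; simp, hb, hb]
    ring
  have H : ∀ i j : GolayPt, i ≠ j → ∀ s ∈ [(1 : ℤ), -1], ∀ t ∈ [(1 : ℤ), -1], ∃ k,
      (s * (fA k).1 i + t * (fA k).1 j) % 8 ≠ 0 ∨ (s * (fB k).1 i + t * (fB k).1 j) % 8 ≠ 0 := by
    decide +kernel
  obtain ⟨k, hk⟩ := H i j e (b i) (by simpa using bi) (b j) (by simpa using bj)
  have a := hA k
  have c := hB k
  rw [key] at a c
  omega

/-- three tetrads inside `OO` -/
def TT : Fin 3 → Finset GolayPt :=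
  ![{some 0, some 1, some 2, some 14}, {some 0, some 1, some 3, some 5}, {some 0, some 2, some 3, some 17}]

def bT (n : Fin 3) : GolayPt → ℤ := fun p => if p ∈ TT n then 1 else 0

def tv (n : Fin 3) : leechLattice := ⟨(4 : ℤ) • bT n, four_mem (by revert n; decide +kernel)⟩

theorem tv_apply (n : Fin 3) (p : GolayPt) : (tv n).1 p = 4 * bT n p := rfl

theorem norm_tv (n : Fin 3) : sqNorm (tv n).1 = 64 := by revert n; decide +kernel

theorem tv_A (n : Fin 3) (j : Fin 24) : dotInt (tv n).1 (fA j).1 % 32 = 0 := by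
  revert n j; decide +kernel

theorem tv_B (n : Fin 3) (j : Fin 24) : dotInt (tv n).1 (fB j).1 % 32 = 0 := by
  revert n j; decide +kernel

theorem not_e8 {v : leechLattice} (h64 : sqNorm v.1 = 64) {p : GolayPt} (hp : ¬ (8 : ℤ) ∣ v.1 p) :
    ¬ Cong v (e8 none) := fun hc => by
  obtain ⟨i, e | e⟩ := pm_e8_of_cong h64 hc <;> rw [e] at hp <;>
    simp only [AddSubgroup.coe_neg, Pi.neg_apply, coe_e8, Pi.single_apply] at hp <;>
    split_ifs at hp <;> omega

theorem oct_word {D : Finset GolayPt} (hD : D.card ≤ 8) {u : F} (hu : u ∈ golayCode)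
    (h0 : ∀ p, p ∉ D → u p = 0) {p q : GolayPt} (hp : p ∈ D) (hq : q ∈ D) : u p = u q := by
  have h1 : support₂ u ⊆ D := fun x hx => by_contra fun e => Golay.mem_support₂.1 hx (h0 x e)
  have h2 := Finset.card_le_card h1
  rcases weight_cases hu with e | e | e | e | e
  · rw [Finset.card_eq_zero, Finset.eq_empty_iff_forall_notMem] at e
    rw [not_not.1 (mt Golay.mem_support₂.2 (e p)), not_not.1 (mt Golay.mem_support₂.2 (e q))]
  · rw [← Finset.eq_of_subset_of_card_le h1 (by omega), Golay.mem_support₂,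
      Golay.zmod2_ne_zero_iff] at hp hq
    rw [hp, hq]
  all_goals omega

theorem Mn.cube {k σ s} (m : Mn k σ s) (h : k ^ 3 = 1) : σ ^ 3 = 1 := by
  have := (m.mul m).mul m
  rw [← pow_three', h] at this
  rw [pow_three']
  exact (this.unique mn_one).1

/-- half of `sA` -/
def aA : GolayPt → ℤ := fun p => if p ∈ OO then 1 else if p = some 4 ∨ p = some 6 then 2 else 0

theorem sA_half (p : GolayPt) : sA.1 p = 2 * aA p := by revert p; decide +kernel

theorem red_aA : red aA = ind OO := by funext p; revert p; decide +kernel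

theorem lat3 {k : Co0} (h3 : k ^ 3 = 1) (h8 : Cong (k • e8 none) (e8 none)) (hA : Cong (k • sA) sA)
    (hT : ∀ n, Cong (k • tv n) (tv n)) : k = 1 := by
  obtain ⟨π, c, rfl⟩ := exists_mono_of h8
  have m := mn_mono π c
  have p3 := Mn.cube m h3
  have h1 := cong2 (m.mul_eq sA_half) sA_half hA
  rw [m.red, red_aA] at h1
  have s3 : ∀ p, π.1.symm (π.1.symm (π.1.symm p)) = p := fun p => by
    have : (π.1⁻¹) ^ 3 = 1 := by rw [inv_pow, p3, inv_one]
    exact congrArg (fun f : Equiv.Perm GolayPt => f p) ((pow_three' _).symm.trans this)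
  have odd : ∀ (f : F) (ε : ZMod 2) (p : GolayPt), f (π.1.symm p) + f p = ε →
      f (π.1.symm (π.1.symm p)) + f (π.1.symm p) = ε →
      f (π.1.symm (π.1.symm (π.1.symm p))) + f (π.1.symm (π.1.symm p)) = ε → ε = 0 := by
    intro f ε p a b c
    rw [s3] at c
    generalize f p = x, f (π.1.symm p) = y, f (π.1.symm (π.1.symm p)) = z at a b c
    revert x y z ε; decide
  have hO : ∀ p, π.1.symm p ∈ OO ↔ p ∈ OO := by
    have : Rk.act π.1 (ind OO) = ind OO := h1.resolve_right fun e => by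
      have k : ∀ p, ind OO (π.1.symm p) + ind OO p = 1 := fun p => by
        rw [show ind OO (π.1.symm p) = ind OO p + 1 from congrFun e p, add_right_comm,
          CharTwo.add_self_eq_zero, zero_add]
      exact one_ne_zero (odd _ _ none (k _) (k _) (k _))
    intro p
    have : ind OO (π.1.symm p) = ind OO p := congrFun this p
    simp only [ind] at this
    split_ifs at this with a b b
    exacts [iff_of_true a b, absurd this one_ne_zero, absurd this zero_ne_one, iff_of_false a b]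
  have hn : ∀ n, ∀ p ∈ OO, red (bT n) (π.1.symm p) = red (bT n) p := fun n p hp => by
    have h2 := cong4 (m.mul_eq (tv_apply n)) (tv_apply n) (hT n)
    rw [m.red] at h2
    have z : ∀ n, ∀ p, p ∉ OO → red (bT n) p = 0 := by decide +kernel
    have k : ∀ q ∈ OO, red (bT n) (π.1.symm q) + red (bT n) q =
        red (bT n) (π.1.symm p) + red (bT n) p := fun q hq =>
      oct_word (D := OO) Golay.O0_mem.2.le h2 (fun x hx => by
        show red (bT n) (π.1.symm x) + red (bT n) x = 0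
        rw [z n x hx, z n _ (mt (hO x).1 hx), add_zero]) hq hp
    have := odd _ _ p rfl (k _ ((hO _).2 hp)) (k _ ((hO _).2 ((hO _).2 hp)))
    rwa [CharTwo.add_eq_zero] at this
  have sep : ∀ p ∈ OO, ∀ q ∈ OO, (∀ n, red (bT n) q = red (bT n) p) → q = p := by decide +kernel
  have hf : OO ⊆ Golay.fixS π.1 := fun p hp => by
    rw [Golay.mem_fixS, ← Equiv.eq_symm_apply]
    exact (sep p hp _ ((hO p).2 hp) fun n => hn n p hp).symm
  have h8' := Finset.card_le_card hf
  rw [Golay.O0_mem.2] at h8'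
  have e1 : π = 1 := Subtype.ext (by_contra fun e => by
    have : Fact (Nat.Prime 3) := ⟨Nat.prime_three⟩
    rcases Golay.ord3_class π.2 (orderOf_eq_prime p3 e) with a | a <;>
      simp only [a.card_fixS, Golay.card_fixS_3A, Golay.card_fixS_3B] at h8' <;> omega)
  subst e1
  have h2 : mono 1 c * mono 1 c = 1 := Sgn_sq (sgn_mem c)
  rwa [pow_three', h2, one_mul] at h3

end TA

open TA

variable {G : Type*} [Group G] [Finite G] {y z s : G} {R : leechLattice → G → Prop}
  {A : Co0 → G → Prop}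

theorem Cx.R_sB (h : Cx y R A) (hz : R (e8 none) z) (hs : R sA s) : R sB (z * s) :=
  h.mt.R_of_cong (h.mt.R_mul hz hs) cong_sB

/-- an element over a vector of norm `64` has a chart, and its `QQ` contains `y` -/
theorem Cx.mo64 (h : Cx y R A) {v x} (hx : R v x) (hv : sqNorm v.1 = 64) : Mo x ∧ y ∈ QQ x :=
  ⟨h.mo.of_isConj (h.conj_of_64 hx hv), h.mo.symm (h.conj_of_64 hx hv) (h.mt.R_mem hx)⟩

theorem Cx.sA_ne (h : Cx y R A) (hz : R (e8 none) z) (hs : R sA s) : s ≠ z := fun e =>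
  not_e8 norm_sA (p := none) (by decide +kernel) (h.mt.cong_of hs (e ▸ hz))

theorem Cx.tv_mem (h : Cx y R A) (hz : R (e8 none) z) (hs : R sA s) {n x} (hx : R (tv n) x) :
    x ∈ QQ z ∧ x ∈ QQ s ∧ x ∈ QQ (z * s) := by
  refine ⟨h.four hz (fun i => ⟨_, tv_apply n i⟩) hx, h.mem_of_dot hs norm_sA hx fun μ a b => ?_,
    h.mem_of_dot (h.R_sB hz hs) norm_sB hx fun μ a b => ?_⟩
  · obtain ⟨j, rfl | rfl⟩ := cross_A a b
    · exact Int.dvd_of_emod_eq_zero (tv_A n j)
    · rw [AddSubgroup.coe_neg, dot_neg_right, dvd_neg]; exact Int.dvd_of_emod_eq_zero (tv_A n j)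
  · obtain ⟨j, rfl | rfl⟩ := cross_B a b
    · exact Int.dvd_of_emod_eq_zero (tv_B n j)
    · rw [AddSubgroup.coe_neg, dot_neg_right, dvd_neg]; exact Int.dvd_of_emod_eq_zero (tv_B n j)

theorem Cx.a1 (h : Cx y R A) (hz : R (e8 none) z) (hs : R sA s) {x : G} (x1 : x ∈ QQ z)
    (x2 : x ∈ QQ s) (x3 : x ∈ QQ (z * s)) : x = 1 ∨ IsConj y x := by
  have mz := h.mo64 hz (sqNorm_e8 _)
  have ms := h.mo64 hs norm_sA
  have ne := h.sA_ne hz hs
  obtain ⟨k, hk⟩ := h.mt.ex_g x (mz.1.inf_comm ms.1 ne x1 x2 mz.2 ms.2)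
  obtain ⟨c, rfl⟩ := exists_sgn (h.sgn hz x1 hk)
  have H : ∀ p, ∃ j, (fA j).1 p ≠ 0 ∧ (fA j).1 none ≠ 0 := by decide +kernel
  have hq : x ∈ QQ y := (h.mt.A_ker hk).2 (sgn_center fun p =>
    let ⟨j, a, b⟩ := H p; pm_mem (h.pm hs norm_sA x2 hk (norm_fA j) (cong_fA j)) a b)
  by_cases e1 : x = 1
  · exact Or.inl e1
  by_cases e2 : x = y
  · exact Or.inr (e2 ▸ IsConj.refl _)
  obtain ⟨v, hv, e | e⟩ := h.mt.invol_cases hq e1 e2 (mz.1.inf_sq ms.1 ne x1 x2)
  · exact (no32 e (h.four_of hz hv x1 (by omega))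
      (fun j => h.dot32 hs norm_sA hv x2 (by omega) (norm_fA j) (cong_fA j))
      fun j => h.dot32 (h.R_sB hz hs) norm_sB hv x3 (by omega) (norm_fB j) (cong_fB j)).elim
  · exact Or.inr (h.conj_of_64 hv e)

theorem Cx.not_un (h : Cx y R A) (hz : R (e8 none) z) (hs : R sA s) : ¬ Un z s := by
  intro hu
  obtain ⟨x, hx⟩ := h.mt.ex_x (tv 0)
  have m := h.tv_mem hz hs hx
  have cz := h.conj_of_64 hz (sqNorm_e8 _)
  have cx := h.conj_of_64 hx (norm_tv 0)
  have n8 := not_e8 (norm_tv 0) (p := some 0) (by decide +kernel)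
  rcases hu y x cz.symm (cz.symm.trans cx) (h.e8_ne hz).2.symm (fun e => n8 (h.mt.cong_of hx (e ▸ hz)))
    (h.mo64 hz (sqNorm_e8 _)).2 m.1 (h.mt.R_mem hs)
    ((h.mo64 hs norm_sA).1.symm ((h.conj_of_64 hs norm_sA).symm.trans cx) m.2.1) with e | e
  · exact (h.mt.ne_of_norm hx (norm_tv 0).le (by rw [norm_tv]; norm_num)).2 e
  · rw [← h.mo.comm (h.mt.R_mem hz)] at e
    exact n8 (h.mt.cong_of hx (e ▸ h.mt.R_z hz))

theorem Cx.a3 (h : Cx y R A) (hz : R (e8 none) z) (hs : R sA s) {w : G} (w3 : w ^ 3 = 1)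
    (wz : w * z = z * w) (ws : w * s = s * w)
    (hw : ∀ x, x ∈ QQ z → x ∈ QQ s → x ∈ QQ (z * s) → w * x = x * w) : w = 1 := by
  obtain ⟨k, hk, k3⟩ := h.odd_lift (hw y (h.mo64 hz (sqNorm_e8 _)).2 (h.mo64 hs norm_sA).2
    (h.mo64 (h.R_sB hz hs) norm_sB).2) (by decide : Odd 3) w3
  refine h.odd_ne (by decide : Odd 3) w3 hk ?_
  rw [lat3 k3 (cong_of_comm h.mt hk hz wz) (cong_of_comm h.mt hk hs ws) fun n => ?_]
  · exact one_mem _
  obtain ⟨x, hx⟩ := h.mt.ex_x (tv n)
  have m := h.tv_mem hz hs hx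
  exact cong_of_comm h.mt hk hx (hw x m.1 m.2.1 m.2.2)

end CL.PA
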