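import Mathlib
import Cfsg.Agent.SPOR.PA.TA
import Cfsg.Agent.SPOR.GolayStabs

/-! (S2198.) Normal form of an even vector of norm 64 whose class plus `e8` is again of norm 64.
`σ = 2a`, `red a` is a codeword of weight 8, 12 or 16.  For weight 16 some vector of the frame of `σ` does
not vanish off the support, and it has weight 8.  For weight 8 the shape is `(6, 2^7)`, and then
`σ ∓ e8` has norm 32, or `(2^8, 4^2)`, one orbit of the monomial group. -/

set_option autoImplicit false

namespace CL.PA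

open Cfsg CL CL.Leech CL.LX CL.MSS CL.MT CL.MP CL.Rk Subgroup
open CL.Golay (E O0)
open scoped commutatorElement Pointwise

namespace Nf

theorem two_tr {O : Finset GolayPt} (hO : O ∈ octads) {i j : GolayPt} (hi : i ∉ O) (hj : j ∉ O)
    (e : i ≠ j) : ∃ π ∈ M24, π • O = OO ∧ π • ({i, j} : Finset GolayPt) = {some 4, some 6} := by
  obtain ⟨g, hg, e1⟩ := Golay.exists_smul_octad hO Golay.O0_mem
  have := Golay.trans_set Golay.gOct_in Golay.syn (F := (Finset.powersetCard 2 OOᶜ : Finset _)) (c := 80)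
    (N := 120) (fun y hy x hx => by
      rw [Finset.mem_coe, Finset.mem_powersetCard] at hx ⊢
      refine ⟨fun p hp => ?_, (Finset.card_smul_finset y x).trans hx.2⟩
      obtain ⟨q, hq, rfl⟩ := Finset.mem_smul_finset.1 hp
      exact Finset.mem_compl.2 (Golay.apply_notMem_of_smul_eq hy.2 (Finset.mem_compl.1 (hx.1 hq))))
    (by norm_num) (by rw [Finset.mem_coe, Finset.mem_powersetCard]; decide +kernel)
    (by rw [Set.ncard_coe_finset, Finset.card_powersetCard, Finset.card_compl, Golay.O0_mem.2,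
      Golay.card_pt]; decide) (by decide +kernel)
  obtain ⟨k, hk, e2⟩ := this (g • {i, j}) (by
    rw [Finset.mem_coe, Finset.mem_powersetCard, Finset.card_smul_finset, Finset.card_pair e]
    refine ⟨fun p hp => ?_, rfl⟩
    obtain ⟨q, hq, rfl⟩ := Finset.mem_smul_finset.1 hp
    rw [Finset.mem_compl, OO, ← e1, Finset.smul_mem_smul_finset_iff]
    rcases Finset.mem_insert.1 hq with rfl | hq
    · exact hi
    · rwa [Finset.mem_singleton.1 hq]) {some 4, some 6}
    (by rw [Finset.mem_coe, Finset.mem_powersetCard]; decide +kernel)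
  exact ⟨k * g, mul_mem hk.1 hg, by rw [mul_smul, e1]; exact hk.2, by rw [mul_smul, e2]⟩

/-- codewords meeting the support of `sA`, apart from `none`, in one point -/
def gw (p : GolayPt) : F := ind (E.setOf (Golay.cw ([129, 1026, 4, 1160, 1168, 160, 1088, 0, 0, 0, 0, 0,
  0, 0, 1024, 0, 0, 1152].getD (E.enc p) 0)))

theorem gw_mem (p : GolayPt) : gw p ∈ golayCode :=
  (mem_supports_iff _).1 (Golay.setOf_cw_mem (by revert p; decide +kernel))

theorem gw_apply : ∀ p x, p ≠ none → x ≠ none → sA.1 p ≠ 0 → sA.1 x ≠ 0 →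
    gw p x = if x = p then 1 else 0 := by decide +kernel

theorem sign_fix {v : leechLattice} (h : ∀ p, v.1 p = sA.1 p ∨ v.1 p = -sA.1 p) :
    ∃ c, sgn c • sA = v := by
  let S : Finset GolayPt := Finset.univ.filter fun p => p ≠ none ∧ v.1 p ≠ sA.1 p
  have hS : ∀ p, p ∈ S ↔ p ≠ none ∧ v.1 p ≠ sA.1 p := fun p => by simp [S]
  have hc : ∑ p ∈ S, gw p ∈ golayCode := sum_mem fun p _ => gw_mem p
  refine ⟨⟨_, (support_mem_supports_iff _).2 hc⟩, ?_⟩
  generalize hd : (⟨_, (support_mem_supports_iff _).2 hc⟩ : Golay.Code) = d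
  have h1 : ∀ x, x ≠ none → (sgn d • sA - v).1 x = 0 := fun x hx => by
    rw [AddSubgroup.coe_sub, Pi.sub_apply, sgn_apply]
    have := h x
    by_cases e : sA.1 x = 0
    · split_ifs <;> omega
    have k : x ∈ d.1 ↔ x ∈ S := by
      rw [← hd, Golay.mem_support₂, Finset.sum_apply, Finset.sum_congr rfl fun p hp =>
        gw_apply p x ((hS p).1 hp).1 hx (fun e => by have := h p; have := ((hS p).1 hp).2; omega) e]
      simp
    rw [hS] at k
    split_ifs with m
    · have := (k.1 m).2; omega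
    · have := mt k.2 m; simp only [hx, ne_eq, not_false_eq_true, true_and, not_not] at this; omega
  by_contra hn
  have h2 := min_norm (sgn d • sA - v).2 fun e => hn (sub_eq_zero.1 (Subtype.ext e))
  rw [sqNorm, Finset.sum_eq_single none (fun x _ hx => by rw [h1 x hx]; rfl) (by simp),
    AddSubgroup.coe_sub, Pi.sub_apply, sgn_apply] at h2
  have h3 : sA.1 none = 2 := by decide +kernel
  rcases h none with e | e <;> rw [e, h3] at h2 <;> split_ifs at h2 <;> norm_num at h2

theorem norm_two {v : leechLattice} {a : GolayPt → ℤ} (ha : ∀ i, v.1 i = 2 * a i)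
    (h64 : sqNorm v.1 = 64) : ∑ i, a i ^ 2 = 16 := by
  have : sqNorm v.1 = 4 * ∑ i, a i ^ 2 := by
    simp only [sqNorm, ha, Finset.mul_sum]
    exact Finset.sum_congr rfl fun i _ => by ring
  omega

theorem half {v : leechLattice} (he : (2 : ℤ) ∣ v.1 none) :
    ∃ a : GolayPt → ℤ, (∀ i, v.1 i = 2 * a i) ∧ red a ∈ golayCode := by
  obtain ⟨m, -, h1, h2, -⟩ := (mem_iff' _).1 v.2
  exact ⟨_, fun i => by have := h1 i; have := h1 none; omega, h2⟩

theorem oct {σ τ : leechLattice} (h64 : sqNorm σ.1 = 64) (hτ : sqNorm τ.1 = 64)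
    (hc : Cong (e8 none + σ) τ) {a : GolayPt → ℤ} (ha : ∀ i, σ.1 i = 2 * a i) (hr : red a ∈ golayCode)
    (h8 : (support₂ (red a)).card = 8) : ∃ k ∈ NN, k • sA = σ := by
  have h16 := norm_two ha h64
  have hO : support₂ (red a) ∈ octads := ⟨(support_mem_supports_iff _).2 hr, h8⟩
  have hm := mem_support_red a
  generalize support₂ (red a) = O at h8 hO hm
  have h1 : ∀ p ∈ O, a p = 1 ∨ a p = -1 := fun p hp => by
    have b1 : a p ^ 2 ≤ 16 := h16 ▸ Finset.single_le_sum (f := fun i => a i ^ 2)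
      (fun _ _ => sq_nonneg _) (Finset.mem_univ p)
    have b2 := (hm p).1 hp
    have b3 : a p ≤ 4 := by nlinarith
    have b4 : -4 ≤ a p := by nlinarith
    have c1 : Cong (e8 p + σ) τ := ((cong_e8 p none).add (Cong.refl σ)).trans hc
    have c2 : Cong (-e8 p + σ) τ := (((cong_neg _).trans (cong_e8 p none)).add (Cong.refl σ)).trans hc
    have n1 : sqNorm (e8 p + σ).1 = 128 + 32 * a p := by
      rw [AddSubgroup.coe_add, sqNorm_add, sqNorm_e8, h64, dot_comm, dot_e8, ha]; ring
    have n2 : sqNorm (-e8 p + σ).1 = 128 - 32 * a p := by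
      rw [AddSubgroup.coe_add, AddSubgroup.coe_neg, sqNorm_add, sqNorm_neg, sqNorm_e8, h64, dot_neg_left,
        dot_comm, dot_e8, ha]; ring
    have d1 := fun e => c1.norm_eq e hτ.le
    have d2 := fun e => c2.norm_eq e hτ.le
    omega
  obtain ⟨i, j, e, bi, bj, h0⟩ := TA.shape2 (b := fun p => if p ∈ O then 0 else a p / 2) (by
    have : ∑ p, a p ^ 2 = ∑ p, ((if p ∈ O then 1 else 0) + 4 * (if p ∈ O then 0 else a p / 2) ^ 2) :=
      Finset.sum_congr rfl fun p _ => by
        split_ifs with m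
        · rcases h1 p m with e | e <;> simp [e]
        · have := mt (hm p).2 m
          obtain ⟨b, hb⟩ : ∃ b, a p = 2 * b := ⟨a p / 2, by omega⟩
          rw [hb, Int.mul_ediv_cancel_left _ two_ne_zero]; ring
    rw [Finset.sum_add_distrib, ← Finset.mul_sum, h16, Finset.sum_boole, Finset.filter_mem_eq_inter,
      Finset.univ_inter, h8] at this
    omega)
  have hi : i ∉ O := fun m => by simp [m] at bi
  have hj : j ∉ O := fun m => by simp [m] at bj
  simp only [hi, hj, if_false] at bi bj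
  obtain ⟨π, hπ, e1, e2⟩ := two_tr hO hi hj e
  obtain ⟨c, hc⟩ := sign_fix (v := permHom ⟨π, hπ⟩ • σ) fun p => by
    obtain ⟨q, rfl⟩ := π.surjective p
    have k1 : π q ∈ OO ↔ q ∈ O := by rw [← e1]; exact Finset.smul_mem_smul_finset_iff π
    have k2 : π q = some 4 ∨ π q = some 6 ↔ q = i ∨ q = j := by
      have : π q ∈ π • ({i, j} : Finset GolayPt) ↔ _ := Finset.smul_mem_smul_finset_iff π
      simpa [e2] using this
    rw [permHom_apply, Equiv.symm_apply_apply, sA_apply, ha]
    simp only [k1, k2]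
    split_ifs with m n
    · have := h1 q m; omega
    · have := mt (hm q).2 m
      rcases n with rfl | rfl <;> omega
    · have := mt (hm q).2 m
      have := h0 q (fun e => n (Or.inl e)) fun e => n (Or.inr e)
      simp only [m, if_false] at this
      omega
  exact ⟨(permHom ⟨π, hπ⟩)⁻¹ * sgn c, mul_mem (inv_mem (permHom_mem_NN _)) (mono_mem_NN _ _),
    by rw [mul_smul, hc, inv_smul_smul]⟩

/-- some vector of a frame does not vanish at a given point -/
theorem exists_ne {σ : leechLattice} (h64 : sqNorm σ.1 = 64) (p : GolayPt) :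
    ∃ μ : leechLattice, sqNorm μ.1 = 64 ∧ Cong μ σ ∧ μ.1 p ≠ 0 := by
  obtain ⟨k, hk⟩ := exists_smul_cong (sqNorm_e8 none) h64
  by_contra hn
  push Not at hn
  have : (k⁻¹ • e8 p).1 = 0 := funext fun i => by
    have a := hn (k • e8 i) (by rw [sqNorm_smul, sqNorm_e8]) (((cong_e8 i none).smul k).trans hk)
    have b := dot_smul k (k⁻¹ • e8 p) (e8 i)
    rw [smul_inv_smul, dot_comm, dot_e8, dot_e8, a] at b
    show _ = (0 : ℤ)
    omega
  have b := sqNorm_smul k⁻¹ (e8 p)
  rw [this, sqNorm_zero, sqNorm_e8] at b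
  omega

end Nf

open Nf

theorem nf {σ τ : leechLattice} (h64 : sqNorm σ.1 = 64) (he : (2 : ℤ) ∣ σ.1 none)
    (h4 : ¬ ∀ i, (4 : ℤ) ∣ σ.1 i) (hτ : sqNorm τ.1 = 64) (hc : Cong (e8 none + σ) τ) :
    (∃ (a : GolayPt → ℤ) (D : Finset GolayPt), D ∈ Golay.Code ∧ D.card = 12 ∧
      (∀ i, σ.1 i = 2 * a i) ∧ red a = ind D) ∨ ∃ k ∈ NN, Cong (k • sA) σ := by
  obtain ⟨a, ha, hr⟩ := half he
  have h16 := norm_two ha h64
  have hle := card_support_le_sum_sq a
  rcases weight_cases hr with e | e | e | e | e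
  · refine absurd (fun i => ?_) h4
    have := mt (mem_support_red a i).2 (by rw [Finset.card_eq_zero.1 e]; simp)
    have := ha i
    omega
  · obtain ⟨k, hk, e⟩ := oct h64 hτ hc ha hr e
    exact Or.inr ⟨k, hk, e ▸ Cong.refl _⟩
  · exact Or.inl ⟨a, _, (support_mem_supports_iff _).2 hr, e, ha, (ind_support _).symm⟩
  · obtain ⟨p, hp⟩ : ∃ p, p ∉ support₂ (red a) := by
      by_contra hn
      push Not at hn
      rw [Finset.eq_univ_of_forall hn, Finset.card_univ, Golay.card_pt] at e
      omega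
    obtain ⟨μ, m64, mc, mp⟩ := exists_ne h64 p
    obtain ⟨b, hb, hr'⟩ := half (v := μ) (by
      obtain ⟨z, -, e⟩ := cong_iff_coe.1 mc
      have := congrFun e none
      simp only [Pi.sub_apply, Pi.smul_apply, nsmul_eq_mul, Nat.cast_ofNat] at this
      omega)
    have h8 : (support₂ (red b)).card = 8 := by
      rcases cong2 hb ha mc with e' | e'
      · have := TA.tight (b := b) (by rw [norm_two hb m64, e', e]; rfl) p
        rw [e', if_neg hp, sq_eq_zero_iff] at this
        rw [hb, this] at mp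
        exact absurd rfl mp
      · rw [e', Golay.support₂_add, Golay.support₂_one, ← Finset.top_eq_univ, symmDiff_top,
          hnot_eq_compl, Finset.card_compl, e, Golay.card_pt]
    obtain ⟨k, hk, e⟩ := oct m64 hτ (((Cong.refl _).add mc).trans hc) hb hr' h8
    exact Or.inr ⟨k, hk, e ▸ mc⟩
  · omega

end CL.PA
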