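import Mathlib
import Cfsg.Agent.SPOR.PA.Lat

/-! (S2198.) PROOF: `g • e8 j = ± fA _` (`cross_A`, `cong_e8`) and
`g⁻¹ • e8 i = g² • e8 i = ± fB _` (`cross_B`).  Put `M i j = (g • e8 j) i = (g⁻¹ • e8 i) j` (`dot_smul`,
`dot_e8`).  Shapes (`decide +kernel`): every `fA j`, `fB j` either is `±2` on all of `OO` and in `{0, ±4}` off `OO`,
or vanishes on `OO` and is `±2` off `OO`.  For `i ∈ OO` all entries `M i j` are `0` or `±2`, so row `i`
has no `±4`; a row of the first shape has a `±4` (norm), so row `i` has the second shape: `M i j = 0` for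
`i, j ∈ OO`.  Hence the 24 vectors `g^a • e8 i` (`a < 3`, `i ∈ OO`) are pairwise orthogonal of norm 64; for the
matrix `B` of these rows `B Bᵀ = 64` gives `Bᵀ B = 64` (`mul_eq_one_comm` over `ℚ`), so for a fixed `v`
`64 |v|² = ∑ (v · g^a e8 i)² = 3 ∑_{i ∈ OO} (8 v i)²` and `3 ∣ |v|²`.  (Or: `v - (u + g u + g² u)` with
`8u = ∑_{i ∈ OO} v i e8 i`.)  With `u = f44 none (some 0)`, `λ = u + g u + g² u` is fixed of norm 96; its short
representative `μ` (`exists_short'`) has `32 ∣` norm (`Cong.dvd_norm`), is not `0` (`λ = 2z` has norm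
`4 · 24`, but `16 ∣ |z|²`), not of norm 32 (`Cong.short`: `g μ = ±μ`, odd order gives `g μ = μ`, `3 ∤ 32`). -/

set_option autoImplicit false

namespace CL.PA

open Cfsg CL CL.Leech CL.LX CL.MSS CL.MT CL.MP CL.Rk Subgroup
open scoped commutatorElement


namespace Rot

theorem entry (g : Co0) (i j : GolayPt) : (g • e8 j).1 i = (g⁻¹ • e8 i).1 j := by
  have := dot_smul g (e8 j) (g⁻¹ • e8 i)
  rw [smul_inv_smul, dot_e8, dot_comm, dot_e8] at this
  omega

theorem zero {g : Co0} (h3 : g ^ 3 = 1) (h1 : Cong (g • e8 none) sA) (h2 : Cong (g • sA) sB)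
    {i j : GolayPt} (hi : i ∈ OO) (hj : j ∈ OO) : (g • e8 j).1 i = 0 := by
  have hA : ∀ k, ∀ p ∈ OO, -2 ≤ (fA k).1 p ∧ (fA k).1 p ≤ 2 := by decide +kernel
  have hB : ∀ k, (∃ p, (fB k).1 p = 4 ∨ (fB k).1 p = -4) ∨ ∀ p ∈ OO, (fB k).1 p = 0 := by
    decide +kernel
  have c1 : ∀ q, Cong (g • e8 q) sA := fun q => ((cong_e8 q none).smul g).trans h1
  have b1 : ∀ q, -2 ≤ (g⁻¹ • e8 i).1 q ∧ (g⁻¹ • e8 i).1 q ≤ 2 := fun q => by
    rw [← entry]
    obtain ⟨k, e | e⟩ := cross_A (by rw [sqNorm_smul, sqNorm_e8]) (c1 q) <;> have := hA k i hi <;> rw [e]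
    · exact this
    · rw [AddSubgroup.coe_neg, Pi.neg_apply]; omega
  have c2 : Cong (g⁻¹ • e8 i) sB := by
    rw [inv_eq_of_mul_eq_one_right ((pow_three g).symm.trans h3), mul_smul]
    exact ((c1 i).smul g).trans h2
  rw [entry]
  obtain ⟨k, e | e⟩ := cross_B (by rw [sqNorm_smul, sqNorm_e8]) c2 <;> rw [e] at b1 ⊢ <;>
    rcases hB k with ⟨p, a⟩ | a
  · have := b1 p; omega
  · exact a j hj
  · have := b1 p; rw [AddSubgroup.coe_neg, Pi.neg_apply] at this; omega
  · rw [AddSubgroup.coe_neg, Pi.neg_apply, a j hj, neg_zero]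

theorem norm_fix {g : Co0} (h3 : g ^ 3 = 1) (h0 : ∀ i ∈ OO, ∀ j ∈ OO, (g • e8 j).1 i = 0)
    {v : leechLattice} (hv : g • v = v) : sqNorm v.1 = 3 * ∑ i : OO, v.1 i ^ 2 := by
  let e : GolayPt ≃ Fin 3 × OO := Fintype.equivOfCardEq (by
    rw [Fintype.card_prod, Fintype.card_coe, Golay.O0_mem.2, Golay.card_pt]; rfl)
  have d1 : ∀ i j : OO, dotInt (e8 i).1 (g • e8 j).1 = 0 := fun i j => by
    rw [dot_comm, dot_e8, h0 _ i.2 _ j.2, mul_zero]
  have d2 : ∀ i j : OO, dotInt (g • g • e8 i).1 (e8 j).1 = 0 := fun i j => by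
    rw [← dot_smul g, ← mul_smul, ← mul_smul, ← pow_three', h3, one_smul, d1]
  have d3 : ∀ i j : OO, dotInt (g • e8 i).1 (g • g • e8 j).1 = 0 := fun i j => by rw [dot_smul, d1]
  have d0 : ∀ i j : OO, dotInt (e8 i).1 (e8 j).1 = if i = j then 64 else 0 := fun i j => by
    rw [dot_e8, coe_e8, Pi.single_apply]
    by_cases h : i = j
    · simp [h]
    · rw [if_neg h, if_neg fun e => h (Subtype.ext e.symm), mul_zero]
  have H : ∀ x y : Fin 3 × OO, dotInt (g ^ x.1.val • e8 x.2).1 (g ^ y.1.val • e8 y.2).1 =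
      if x = y then 64 else 0 := fun ⟨a, i⟩ ⟨b, j⟩ => by
    fin_cases a <;> fin_cases b <;>
      simp [dot_smul, d0, d1, d2, d3, pow_two, mul_smul, dot_comm _ (e8 j).1 ▸ d1 j i,
        (dot_comm _ _).trans (d1 j i), (dot_comm _ _).trans (d2 j i), (dot_comm _ _).trans (d3 j i)]
  have := transpose_orth (fun p => (g ^ (e p).1.val • e8 (e p).2).1)
    (fun p q => by rw [H]; simp) v.1
  have k : ∀ (a : ℕ) (i : GolayPt), dotInt (g ^ a • e8 i).1 v.1 = 8 * v.1 i := fun a i => by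
    have : g ^ a • v = v := MulAction.mem_stabilizer_iff.1 (pow_mem (MulAction.mem_stabilizer_iff.2 hv) a)
    rw [← dot_e8, dot_comm v.1, ← dot_smul (g ^ a) (e8 i) v, this]
  simp only [k] at this
  rw [sqNorm, e.sum_comp (fun x => (8 * v.1 x.2) ^ 2), Fintype.sum_prod_type] at this
  simp only [mul_pow, ← Finset.mul_sum, Finset.sum_const, Finset.card_univ, Fintype.card_fin,
    nsmul_eq_mul, Nat.cast_ofNat] at this
  omega

end Rot

theorem rot {g : Co0} (h3 : g ^ 3 = 1) (h1 : Cong (g • e8 none) sA) (h2 : Cong (g • sA) sB) :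
    (∀ v : leechLattice, g • v = v → sqNorm v.1 ≠ 64) ∧
      ∃ μ : leechLattice, sqNorm μ.1 = 64 ∧ Cong (g • μ) μ := by
  have h0 : ∀ i ∈ OO, ∀ j ∈ OO, (g • e8 j).1 i = 0 := fun i hi j hj => Rot.zero h3 h1 h2 hi hj
  have hn := fun v => Rot.norm_fix h3 h0 (v := v)
  refine ⟨fun v hv => by have := hn v hv; omega, ?_⟩
  have g3 : ∀ v : leechLattice, g • g • g • v = v := fun v => by
    rw [← mul_smul, ← mul_smul, ← pow_three', h3, one_smul]
  have a : none ∈ OO := by decide +kernel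
  have b : some 0 ∈ OO := by decide +kernel
  have u2 : f44 none (some 0) + f44 none (some 0) = e8 none + e8 (some 0) :=
    Subtype.ext (funext (by decide +kernel))
  have un : ∑ i : OO, (f44 none (some 0)).1 i ^ 2 = 32 := by decide +kernel
  generalize f44 none (some 0) = u at u2 un
  have z : ∀ k : Co0, (∀ i ∈ OO, ∀ j ∈ OO, (k • e8 j).1 i = 0) → ∀ i : OO, (k • u).1 i = 0 :=
    fun k hk i => by
      have := congrArg (fun x : leechLattice => (k • x).1 i) u2
      simp only [smul_add, AddSubgroup.coe_add, Pi.add_apply, hk _ i.2 _ a, hk _ i.2 _ b] at this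
      omega
  have z1 := z g h0
  have z2 := z (g * g) fun i hi j hj => by
    rw [← inv_eq_of_mul_eq_one_right ((pow_three g).symm.trans h3), ← Rot.entry, h0 _ hj _ hi]
  have hf : g • (u + g • u + g • g • u) = u + g • u + g • g • u := by
    rw [smul_add, smul_add, g3]; abel
  have h96 := hn _ hf
  simp only [AddSubgroup.coe_add, Pi.add_apply, z1, ← mul_smul, z2, add_zero, un] at h96
  rw [mul_smul, ← AddSubgroup.coe_add, ← AddSubgroup.coe_add] at h96
  generalize u + g • u + g • g • u = l at hf h96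
  obtain ⟨μ, hc, hμ⟩ := exists_short' l
  have c : Cong (g • μ) μ := (hf ▸ hc.symm.smul g).trans hc
  rcases hμ with rfl | e | e | e
  · obtain ⟨w, hw⟩ := hc
    rw [sub_zero] at hw
    rw [hw, AddSubgroup.coe_nsmul, sqNorm_two_nsmul] at h96
    have := sixteen_dvd w.2
    omega
  · rcases c.short (by rw [sqNorm_smul]; omega) (by omega) with e' | e' | e'
    · have := hn _ e'; omega
    · have := g3 μ
      simp only [e', smul_neg, neg_neg] at this
      have := hn μ (e'.trans this)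
      omega
    · omega
  · have := hc.dvd_norm; omega
  · exact ⟨μ, e, c⟩

end CL.PA
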