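import Mathlib
import Cfsg.Agent.SPOR.PA.Cfg
import Cfsg.Agent.S0384
import Cfsg.Agent.SPOR.GolayRes

/-! (S2198, helper88). The stabiliser of a dodecad has no elementary abelian subgroup of order 16.
PROOF: suppose the 16 products are distinct; they form a group `E` acting on the 12 points of `D`,
faithfully and with only `1` fixing five points (`S0384`).  As `16 > 12` some `e ≠ 1` in `E` fixes a
point of `D`; let `F` be its fixed set in `D` (even size, at most 4).  An involution with two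
2-cycles `(a b)(c d)` and a fixed point `p` fixes the hexad (octad meeting `D` in 6 points, `S0385`)
through `a b c d p`, so its sixth point: with three such choices `|F| = 4`.  An involution fixing the four
points of `F` is unique (it swaps the two other points of each hexad through 4 points, i.e.
the octad through `F` and `a` meets `D` in `F ∪ {a, a'}` and `a ↦ a'`), so `E/⟨e⟩` of order 8
acts faithfully on `F`, but `S4` has no elementary abelian subgroup of order 8 (`decide`).
ALTERNATIVE: any landed description of a Sylow 2-subgroup of `M12` (order 64) and a kernel check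
(transport by `Golay.exists_smul_dodecad`). -/

set_option autoImplicit false

namespace CL.PA

open Cfsg CL CL.Leech CL.LX CL.MSS CL.MT CL.MP CL.Rk Subgroup
open scoped commutatorElement


theorem pd_add {G : Type*} [Group G] {x : Fin 4 → G} (sq : ∀ i, x i * x i = 1)
    (cm : ∀ i j, x i * x j = x j * x i) (e e' : Fin 4 → Fin 2) : pd x (e + e') = pd x e * pd x e' := by
  have h : ∀ i, x i ^ ((e + e') i).val = x i ^ (e i).val * x i ^ (e' i).val := fun i => by
    rw [← pow_add, Pi.add_apply, Fin.val_add, ← pow_eq_pow_mod _ ((pow_two _).trans (sq i))]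
  have c : ∀ i j (a b : ℕ), Commute (x i ^ a) (x j ^ b) := fun i j a b => Commute.pow_pow (cm i j) a b
  simp only [pd, h]
  rw [(((c 3 0 _ _).mul_right (c 3 1 _ _)).mul_right (c 3 2 _ _)).mul_mul_mul_comm,
    ((c 2 0 _ _).mul_right (c 2 1 _ _)).mul_mul_mul_comm, (c 1 0 _ _).mul_mul_mul_comm]

namespace M12R

open CL.Golay CL.M12 Finset
open scoped Pointwise

variable {D : Finset GolayPt} (hD : D ∈ dodecads)
include hD

theorem six {o : Finset GolayPt} (ho : o ∈ octads) (h : 5 ≤ (o ∩ D).card) : (o ∩ D).card = 6 := by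
  have := card_of_mem_code (symmDiff_mem_code (mem_octads.1 ho).1 (mem_dodecads.1 hD).1)
  have a := card_sdiff_add_card_inter o D
  have b := card_sdiff_add_card_inter D o
  rw [inter_comm D, (mem_dodecads.1 hD).2] at b
  rw [(mem_octads.1 ho).2] at a
  rw [symmDiff_def, sup_eq_union, card_union_of_disjoint disjoint_sdiff_sdiff] at this
  omega

theorem fix5 {g : Equiv.Perm GolayPt} (hg : g ∈ M12.St D) {S : Finset GolayPt} (h1 : S ⊆ D) (h2 : S.card = 5)
    (h3 : ∀ a ∈ S, g a = a) : g = 1 :=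
  eq_one_of_fix5 hD (fun i => (S.equivFinOfCardEq h2).symm i)
    (Subtype.val_injective.comp (S.equivFinOfCardEq h2).symm.injective) (fun _ => h1 (Subtype.mem _)) hg
    fun _ => h3 _ (Subtype.mem _)

theorem hexad {t : Equiv.Perm GolayPt} (ht : t ∈ M12.St D) (t2 : t * t = 1) (t1 : t ≠ 1) {F : Finset GolayPt}
    (h1 : F ⊆ D) (h2 : F.card = 4) (h3 : ∀ a ∈ F, t a = a) {a : GolayPt} (ha : a ∈ D) (ha' : a ∉ F) :
    t a ∈ D ∧ t a ∉ insert a F ∧ ∃ o ∈ octads, insert (t a) (insert a F) ⊆ o := by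
  have tD : ∀ b ∈ D, t b ∈ D := fun b hb => (mem_St.1 ht).2.le (smul_mem_smul_finset hb)
  have tt : ∀ b, t (t b) = b := fun b => congrArg (fun g : Equiv.Perm GolayPt => g b) t2
  have k : ∀ b ∈ D, t b = b → b ∈ F := fun b hb e => by_contra fun e' => t1 (fix5 hD ht
    (insert_subset hb h1) (by rw [card_insert_of_notMem e', h2]) (forall_mem_insert .. |>.2 ⟨e, h3⟩))
  have n : t a ∉ insert a F := fun e => by
    rcases mem_insert.1 e with e | e
    · exact ha' (k a ha e)
    · exact ha' (t.injective (h3 _ e) ▸ e)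
  refine ⟨tD a ha, n, ?_⟩
  obtain ⟨F', f1, f2⟩ := exists_subset_card_eq (show 3 ≤ F.card by omega)
  have c5 : (insert (t a) (insert a F')).card = 5 := by
    rw [card_insert_of_notMem fun e => n (insert_subset_insert _ f1 e),
      card_insert_of_notMem fun e => ha' (f1 e), f2]
  have tS : ∀ b ∈ insert (t a) (insert a F'), t b ∈ insert (t a) (insert a F') := by
    simp only [forall_mem_insert, tt]
    exact ⟨by simp, by simp, fun b hb => by simp [h3 b (f1 hb), hb]⟩
  obtain ⟨o, ⟨ho, hS⟩, -⟩ := steiner_octads.2 _ c5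
  have e : t • o = o := octad_eq_of_le_card_inter ((smul_mem_octads ht.1).2 ho) ho (c5.ge.trans
    (card_le_card (subset_inter (fun b hb => tt b ▸ smul_mem_smul_finset (hS (tS b hb))) hS)))
  have hS' : insert (t a) (insert a F') ⊆ o ∩ D :=
    subset_inter hS (insert_subset (tD a ha) (insert_subset ha (f1.trans h1)))
  obtain ⟨x, hx⟩ := card_eq_one.1 (show ((o ∩ D) \ insert (t a) (insert a F')).card = 1 by
    rw [card_sdiff_of_subset hS', six hD ho (c5.ge.trans (card_le_card hS')), c5])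
  obtain ⟨x1, x2⟩ := mem_sdiff.1 (hx.ge (mem_singleton_self x))
  have x3 := k x (mem_inter.1 x1).2 (mem_singleton.1 (hx.le (mem_sdiff.2 ⟨mem_inter.2
    ⟨e.le (smul_mem_smul_finset (mem_inter.1 x1).1), tD _ (mem_inter.1 x1).2⟩, fun e => x2 (tt x ▸ tS _ e)⟩)))
  have : insert x F' = F := eq_of_subset_of_card_le (insert_subset x3 f1) (by
    rw [card_insert_of_notMem fun e => x2 (by simp [e]), f2, h2])
  exact ⟨o, ho, insert_subset (hS (by simp)) (insert_subset (hS (by simp)) (this ▸ insert_subset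
    (mem_inter.1 x1).1 fun b hb => hS (by simp [hb])))⟩

theorem uniq {s t : Equiv.Perm GolayPt} (hs : s ∈ M12.St D) (s2 : s * s = 1) (s1 : s ≠ 1) (ht : t ∈ M12.St D)
    (t2 : t * t = 1) (t1 : t ≠ 1) {F : Finset GolayPt} (h1 : F ⊆ D) (h2 : F.card = 4)
    (h3 : ∀ a ∈ F, s a = a) (h4 : ∀ a ∈ F, t a = a) : s = t := by
  obtain ⟨a, ha, ha'⟩ := exists_mem_notMem_of_card_lt_card
    (show F.card < D.card by rw [h2, (mem_dodecads.1 hD).2]; decide)
  obtain ⟨a1, a2, o, ho, a3⟩ := hexad hD hs s2 s1 h1 h2 h3 ha ha'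
  obtain ⟨b1, b2, o', ho', b3⟩ := hexad hD ht t2 t1 h1 h2 h4 ha ha'
  have c5 : (insert a F).card = 5 := by rw [card_insert_of_notMem ha', h2]
  obtain rfl := octad_eq_of_le_card_inter ho ho' (c5.ge.trans (card_le_card
    (subset_inter ((subset_insert _ _).trans a3) ((subset_insert _ _).trans b3))))
  have e : s a = t a := by_contra fun e => by
    have := card_le_card (show insert (s a) (insert (t a) (insert a F)) ⊆ o ∩ D from subset_inter
      (insert_subset (a3 (mem_insert_self _ _)) b3) (insert_subset a1 (insert_subset b1 (insert_subset ha h1))))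
    rw [card_insert_of_notMem fun e' => (mem_insert.1 e').elim e a2, card_insert_of_notMem b2, c5] at this
    have := six hD ho (by omega)
    omega
  refine (inv_mul_eq_one.1 (fix5 hD (mul_mem (inv_mem ht) hs) (insert_subset ha h1) c5 ?_)).symm
  simp only [forall_mem_insert, Equiv.Perm.mul_apply, Equiv.Perm.inv_eq_iff_eq]
  exact ⟨e, fun b hb => (h3 b hb).trans (h4 b hb).symm⟩

omit hD in
set_option synthInstance.maxSize 2000 in
theorem s4 : ∀ a : Equiv.Perm (Fin 4), a * a ≠ 1 ∨ ∀ b : Equiv.Perm (Fin 4), b * b ≠ 1 ∨ a * b ≠ b * a ∨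
    ∀ c : Equiv.Perm (Fin 4), c * c ≠ 1 ∨ a * c ≠ c * a ∨ b * c ≠ c * b ∨ ∀ d : Equiv.Perm (Fin 4),
      d * d ≠ 1 ∨ a * d ≠ d * a ∨ b * d ≠ d * b ∨ c * d ≠ d * c ∨ ∃ e, (e ≠ 0 ∧ pd ![a, b, c, d] e = 1) ∧
        ∃ e', (e' ≠ 0 ∧ pd ![a, b, c, d] e' = 1) ∧ e + e' ≠ 0 := by
  decide +kernel

end M12R

open Golay M12 Pointwise in
theorem m12_rank {D : Finset GolayPt} (hD : D ∈ Golay.Code) (h12 : D.card = 12) (p : Fin 4 → M24)
    (hp : ∀ i, ∀ a ∈ D, (p i).1 a ∈ D) (sq : ∀ i, p i * p i = 1)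
    (cm : ∀ i j, p i * p j = p j * p i) : ∃ e, e ≠ 0 ∧ pd p e = 1 := by
  have hD' := mem_dodecads.2 ⟨hD, h12⟩
  let E := closure (Set.range fun i => (p i).1)
  have hE : E ≤ M12.St D := (closure_le _).2 (by
    rintro _ ⟨i, rfl⟩
    refine mem_St.2 ⟨(p i).2, Finset.eq_of_subset_of_card_le (fun a ha => ?_) (Finset.card_smul_finset _ _).ge⟩
    obtain ⟨b, hb, rfl⟩ := Finset.mem_smul_finset.1 ha
    exact hp i b hb)
  have c : ∀ x ∈ E, ∀ y ∈ E, x * y = y * x := fun x hx y hy =>
    congrArg Subtype.val ((isMulCommutative_closure (by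
      rintro _ ⟨i, rfl⟩ _ ⟨j, rfl⟩; exact congrArg Subtype.val (cm i j))).is_comm.comm ⟨x, hx⟩ ⟨y, hy⟩)
  have e2 : ∀ x ∈ E, x * x = 1 := fun x hx => by
    induction hx using closure_induction with
    | mem x hx => obtain ⟨i, rfl⟩ := hx; exact congrArg Subtype.val (sq i)
    | one => simp
    | mul x y hx hy a b => rw [mul_assoc, ← mul_assoc y, c y hy x hx, mul_assoc, b, mul_one, a]
    | inv x _ a => rw [← mul_inv_rev, a, inv_one]
  let S : SubMulAction E (Finset GolayPt) := ⟨{F | F ∈ D.powersetCard 4}, fun g F hF => by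
    simp only [Set.mem_setOf_eq, Finset.mem_powersetCard] at hF ⊢
    exact ⟨(Finset.smul_finset_subset_smul_finset hF.1).trans (mem_St.1 (hE g.2)).2.le,
      (Finset.card_smul_finset _ _).trans hF.2⟩⟩
  obtain ⟨⟨F, hF⟩, hf⟩ := IsPGroup.nonempty_fixed_point_of_prime_not_dvd_card (p := 2) (G := E)
    (fun g => ⟨1, Subtype.ext ((pow_two _).trans (e2 _ g.2))⟩) S (by
      rw [show Nat.card S = (D.powersetCard 4).card from Nat.card_eq_finsetCard _, Finset.card_powersetCard, h12]
      decide)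
  obtain ⟨f1, f2⟩ := Finset.mem_powersetCard.1 hF
  have hF' : ∀ g ∈ E, g • F = F := fun g hg => congrArg Subtype.val (hf ⟨g, hg⟩)
  let τ := (F.equivFinOfCardEq f2).permCongrHom.toMonoidHom.comp (Orb.actHom E F hF')
  let q : Fin 4 → E := fun i => ⟨(p i).1, subset_closure ⟨i, rfl⟩⟩
  have a : ∀ i, τ (q i) * τ (q i) = 1 := fun i => by
    rw [← map_mul, show q i * q i = 1 from Subtype.ext (e2 _ (q i).2), map_one]
  have b : ∀ i j, τ (q i) * τ (q j) = τ (q j) * τ (q i) := fun i j => by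
    rw [← map_mul, ← map_mul, show q i * q j = q j * q i from Subtype.ext (c _ (q i).2 _ (q j).2)]
  obtain ⟨e, ⟨e1, e3⟩, e', ⟨e4, e5⟩, e6⟩ := (((((((((((M12R.s4 (τ (q 0))).resolve_left (· (a 0))) (τ (q 1))).resolve_left
    (· (a 1))).resolve_left (· (b 0 1))) (τ (q 2))).resolve_left (· (a 2))).resolve_left (· (b 0 2))).resolve_left
    (· (b 1 2))) (τ (q 3))).resolve_left (· (a 3)) |>.resolve_left (· (b 0 3)) |>.resolve_left (· (b 1 3))
    |>.resolve_left (· (b 2 3)))
  have v : ∀ e, (pd q e).1 = (pd p e).1 := fun e =>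
    (map_pd E.subtype q e).trans (map_pd M24.subtype p e).symm
  have k : ∀ e, pd ![τ (q 0), τ (q 1), τ (q 2), τ (q 3)] e = 1 → ∀ a ∈ F, (pd p e).1 a = a := fun e h =>
    v e ▸ (Orb.mem_ker_actHom hF').1 ((map_eq_one_iff _ (F.equivFinOfCardEq f2).permCongrHom.injective).1
      ((map_pd τ q e).trans h))
  by_contra hn
  push Not at hn
  have m : ∀ e, (pd p e).1 ∈ E := fun e => v e ▸ (pd q e).2
  have := M12R.uniq hD' (hE (m e)) (e2 _ (m e)) (fun h => hn e e1 (Subtype.ext h)) (hE (m e')) (e2 _ (m e'))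
    (fun h => hn e' e4 (Subtype.ext h)) f1 f2 (k e e3) (k e' e5)
  exact hn _ e6 (Subtype.ext (by rw [pd_add sq cm, coe_mul, this]; exact e2 _ (m e')))

end CL.PA
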