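import Mathlib
import Cfsg.Agent.SPOR.PA.M12

/-! (S2198.) Elements centralising `y, z, s`, where `s` lies over twice a vector reducing to a
dodecad `D`, act on the coordinates as permutations keeping `{D, Dᶜ}`; those acting trivially lie
in `QQ y`. -/

set_option autoImplicit false
set_option linter.unusedSectionVars false

namespace CL.PA

open Cfsg CL CL.Leech CL.LX CL.MSS CL.MT CL.MP CL.Rk Subgroup
open scoped commutatorElement

namespace TC

theorem dod_word {D : Finset GolayPt} (hD : D ∈ Golay.Code) (h12 : D.card = 12) {u : F}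
    (hu : u ∈ golayCode) (h0 : ∀ p, p ∉ D → u p = 0) : u = 0 ∨ u = ind D := by
  have h1 : support₂ u ⊆ D := fun x hx => by_contra fun e => Golay.mem_support₂.1 hx (h0 x e)
  have h2 := Finset.card_le_card h1
  have h3 : support₂ (u + ind D) = D \ support₂ u := by
    ext p
    by_cases e : p ∈ D
    · rcases zm2 (u p) with a | a <;> simp [Golay.mem_support₂, ind, e, a]
      rfl
    · simp [Golay.mem_support₂, ind, e, h0 p e]
  have h4 := weight_cases (add_mem hu (Golay.mem_golayCode_iff.2 (by rwa [support_ind])))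
  rw [h3, Finset.card_sdiff_of_subset h1] at h4
  rw [← ind_support u]
  rcases weight_cases hu with e | e | e | e | e
  · left
    rw [Finset.card_eq_zero.1 e]
    funext p; simp [ind]
  · omega
  · right
    rw [Finset.eq_of_subset_of_card_le h1 (by omega)]
  all_goals omega

variable {σ : leechLattice} {a : GolayPt → ℤ} {D : Finset GolayPt}

theorem lat0 (h64 : sqNorm σ.1 = 64) (hD : D ∈ Golay.Code) (h12 : D.card = 12)
    (ha : ∀ i, σ.1 i = 2 * a i) (hr : red a = ind D) {k : Co0} {c : F} (hc : c ∈ golayCode)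
    (m : Mn k 1 (sg c)) (h : Cong (k • σ) σ) (h0 : ∀ p ∈ D, c p = 0) : k = 1 := by
  have hs : ∑ i, a i ^ 2 = 16 := by
    have : sqNorm σ.1 = 4 * ∑ i, a i ^ 2 := by
      simp only [sqNorm, ha, Finset.mul_sum]
      exact Finset.sum_congr rfl fun i _ => by ring
    omega
  have ho : ∀ p ∈ D, a p % 2 = 1 := fun p hp => by rw [← mem_support_red, hr, support_ind]; exact hp
  have h8 : ∀ p ∈ D, a p ^ 2 % 8 = 1 := fun p hp => by
    have := ho p hp
    have e : a p % 8 = 1 ∨ a p % 8 = 3 ∨ a p % 8 = 5 ∨ a p % 8 = 7 := by omega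
    rw [pow_two, Int.mul_emod]
    rcases e with e | e | e | e <;> rw [e] <;> rfl
  have h1 : (∑ i ∈ D, a i ^ 2) % 8 = 4 := by
    rw [Finset.sum_int_mod, Finset.sum_congr rfl h8, Finset.sum_const, h12]; rfl
  have h2 : (12 : ℤ) ≤ ∑ i ∈ D, a i ^ 2 := by
    have := Finset.card_nsmul_le_sum D (fun i => a i ^ 2) 1 fun p hp => by
      have := h8 p hp
      have := sq_nonneg (a p)
      omega
    rw [h12] at this
    simpa using this
  have h3 := Finset.sum_add_sum_compl D fun i => a i ^ 2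
  rcases dod_word (D := Dᶜ) (Golay.compl_mem_code hD) (by rw [Finset.card_compl, h12]; rfl) hc
    (by simpa using h0) with rfl | rfl
  · exact m.ext mn_sg_zero
  exfalso
  obtain ⟨u, hu⟩ := h
  have h4 : ∀ i, u.1 i = if i ∈ D then 0 else -2 * a i := fun i => by
    have e1 := sg_sub m ha i
    rw [hu] at e1
    simp only [AddSubgroup.coe_nsmul, Pi.smul_apply, nsmul_eq_mul, lift, ind] at e1
    by_cases e : i ∈ D <;> simp [e] at e1 ⊢ <;> omega
  have h5 : sqNorm u.1 = 4 * ∑ i ∈ Dᶜ, a i ^ 2 := by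
    rw [sqNorm, ← Finset.sum_add_sum_compl D, Finset.sum_eq_zero fun i hi => by simp [h4, hi],
      zero_add, Finset.mul_sum]
    exact Finset.sum_congr rfl fun i hi => by rw [h4, if_neg (Finset.mem_compl.1 hi)]; ring
  by_cases e : u.1 = 0
  · rw [e, sqNorm_zero] at h5
    omega
  · have := min_norm u.2 e
    omega

theorem lat (h64 : sqNorm σ.1 = 64) (hD : D ∈ Golay.Code) (h12 : D.card = 12)
    (ha : ∀ i, σ.1 i = 2 * a i) (hr : red a = ind D) {k : Co0} {t : GolayPt → ℤ}
    (m : Mn k 1 t) (h : Cong (k • σ) σ) : k ∈ center Co0 := by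
  obtain ⟨c, hc, m⟩ := m.code
  have h1 := cong4 (v := k • σ - σ) (w := 0) (b := 0) (sg_sub m ha) (fun i => by simp)
    (by obtain ⟨u, hu⟩ := h; exact ⟨u, by rw [sub_zero, hu]⟩)
  rw [red_zero, add_zero, red_lift_mul, hr] at h1
  rw [CL.MT.mem_center_iff]
  rcases dod_word hD h12 h1 (fun p hp => by simp [ind, hp]) with e | e
  · exact Or.inl (lat0 h64 hD h12 ha hr hc m h fun p hp => by simpa [ind, hp] using congrFun e p)
  · have := lat0 h64 hD h12 ha hr (k := neg1 * k) (c := 1 + c) (add_mem one_mem_code hc) (by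
      rw [funext (sg_add 1 c)]; exact mn_neg.mul m) (by
      rw [mul_smul, neg1_smul]; exact (cong_neg _).trans h) fun p hp => by
        have : c p = 1 := by simpa [ind, hp] using congrFun e p
        rw [Pi.add_apply, this]; rfl
    exact Or.inr (by rw [← neg1_mul_self] at this; exact mul_left_cancel this)

/-- the permutation `π` adds the constant `ε` to `d` -/
def S (d : F) (π : M24) (ε : ZMod 2) : Prop := ∀ p, d (π.1.symm p) = d p + ε

theorem S.mul {d π π' ε ε'} (h : S d π ε) (h' : S d π' ε') : S d (π * π') (ε + ε') := fun p => by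
  show d (π'.1.symm (π.1.symm p)) = _
  rw [h', h, add_assoc]

theorem S.inv {d π ε} (h : S d π ε) : S d π⁻¹ ε := fun p => by
  have := h (π.1 p)
  rw [Equiv.symm_apply_apply] at this
  show d (π.1 p) = _
  rw [this, add_assoc, CharTwo.add_self_eq_zero, add_zero]

variable {G : Type*} [Group G] {y : G} {R : leechLattice → G → Prop} {A : Co0 → G → Prop}

/-- `c` acts on the coordinates as `π` -/
def Ov (A : Co0 → G → Prop) (c : G) (π : M24) : Prop := ∃ k t, A k c ∧ Mn k π.1 t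

theorem Ov.mul (h : Cx y R A) {c c' π π'} (a : Ov A c π) (b : Ov A c' π') : Ov A (c * c') (π * π') :=
  let ⟨_, _, a1, a2⟩ := a; let ⟨_, _, b1, b2⟩ := b; ⟨_, _, h.mt.A_mul a1 b1, a2.mul b2⟩

theorem Ov.inv (h : Cx y R A) {c π} (a : Ov A c π) : Ov A c⁻¹ π⁻¹ :=
  let ⟨_, _, a1, a2⟩ := a; ⟨_, _, h.mt.A_inv a1, a2.inv⟩

theorem Ov.pow (h : Cx y R A) {c π} (a : Ov A c π) (n : ℕ) : Ov A (c ^ n) (π ^ n) := by
  induction n with
  | zero => exact ⟨1, _, by simpa using h.mt.A_one (one_mem _), mn_one⟩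
  | succ n ih => rw [pow_succ, pow_succ]; exact ih.mul h a

theorem Ov.eq_one (h : Cx y R A) {c π} (a : Ov A c π) (hc : c ∈ QQ y) : π = 1 := by
  obtain ⟨k, t, a1, a2⟩ := a
  rcases CL.MT.mem_center_iff.1 ((h.mt.A_ker a1).1 hc) with rfl | rfl
  exacts [Subtype.ext (a2.unique mn_one).1, Subtype.ext (a2.unique mn_neg).1]

end TC

open TC

variable {G : Type*} [Group G] [Finite G] {y z s : G} {R : leechLattice → G → Prop}
  {A : Co0 → G → Prop}

theorem Cx.tc (h : Cx y R A) (hz : R (e8 none) z) {σ : leechLattice} (hs : R σ s)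
    (h64 : sqNorm σ.1 = 64) {a : GolayPt → ℤ} {D : Finset GolayPt} (hD : D ∈ Golay.Code)
    (h12 : D.card = 12) (ha : ∀ i, σ.1 i = 2 * a i) (hr : red a = ind D) {w : G} {x : Fin 4 → G}
    (wy : w * y = y * w) (wz : w * z = z * w) (ws : w * s = s * w) (xy : ∀ i, x i * y = y * x i)
    (xz : ∀ i, x i * z = z * x i) (xs : ∀ i, x i * s = s * x i)
    (h3 : ∀ i, x i * cj w (x i) * cj w (cj w (x i)) ∈ QQ y) (sq : ∀ i, x i * x i ∈ QQ y)
    (cm : ∀ i j, ⁅x i, x j⁆ ∈ QQ y) : ∃ e, e ≠ 0 ∧ pd x e ∈ QQ y := by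
  have key : ∀ c, c * y = y * c → c * z = z * c → c * s = s * c →
      ∃ π ε, Ov A c π ∧ S (ind D) π ε := fun c cy cz cs => by
    obtain ⟨k, hk⟩ := h.mt.ex_g c cy
    obtain ⟨π, d, rfl⟩ := exists_mono_of (cong_of_comm h.mt hk hz cz)
    have m := mn_mono π d
    have h1 := cong2 (m.mul_eq ha) ha (cong_of_comm h.mt hk hs cs)
    rw [m.red, hr] at h1
    rcases h1 with e | e
    · exact ⟨π, 0, ⟨_, _, hk, m⟩, fun p => (congrFun e p).trans (add_zero _).symm⟩
    · exact ⟨π, 1, ⟨_, _, hk, m⟩, fun p => congrFun e p⟩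
  obtain ⟨ω, δ, w1, w2⟩ := key w wy wz ws
  choose π ε x1 x2 using fun i => key (x i) (xy i) (xz i) (xs i)
  have h0 : ∀ i, ε i = 0 := fun i => by
    have c1 : ∀ {c ρ η}, Ov A c ρ ∧ S (ind D) ρ η →
        Ov A (cj w c) (ω * ρ * ω⁻¹) ∧ S (ind D) (ω * ρ * ω⁻¹) (δ + η + δ) := fun b =>
      ⟨(w1.mul h b.1).mul h (w1.inv h), (w2.mul b.2).mul w2.inv⟩
    have b1 := c1 ⟨x1 i, x2 i⟩
    have b2 := c1 b1
    have b3 := ((x2 i).mul b1.2).mul b2.2
    rw [(((x1 i).mul h b1.1).mul h b2.1).eq_one h (h3 i)] at b3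
    have b4 : ind D none = ind D none + _ := b3 none
    have b5 : ∀ θ η δ : ZMod 2, θ = θ + (η + (δ + η + δ) + (δ + (δ + η + δ) + δ)) → η = 0 := by
      decide
    exact b5 _ _ _ b4
  obtain ⟨e, e0, e1⟩ := m12_rank hD h12 π (fun i p hp => by
      have := (x2 i).inv p
      rw [h0, add_zero] at this
      by_contra hn
      simp [ind, hp] at this
      exact hn this)
    (fun i => ((x1 i).mul h (x1 i)).eq_one h (sq i)) fun i j => commutatorElement_eq_one_iff_mul_comm.1
      (((((x1 i).mul h (x1 j)).mul h ((x1 i).inv h)).mul h ((x1 j).inv h)).eq_one h (cm i j))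
  obtain ⟨k, t, k1, k2⟩ : Ov A (pd x e) (pd π e) :=
    ((((x1 0).pow h _).mul h ((x1 1).pow h _)).mul h ((x1 2).pow h _)).mul h ((x1 3).pow h _)
  rw [e1] at k2
  have c : ∀ i n, Commute (x i ^ n) s := fun i n => (show Commute (x i) s from xs i).pow_left n
  exact ⟨e, e0, (h.mt.A_ker k1).2 (lat h64 hD h12 ha hr k2 (cong_of_comm h.mt k1 hs
    ((((c 0 _).mul_left (c 1 _)).mul_left (c 2 _)).mul_left (c 3 _)).eq))⟩

end CL.PA
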