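import Mathlib
import Cfsg.Agent.SPOR.PA.Cfg
import Cfsg.Agent.SPOR.Cent3B

/-! (S2198, helper88).
`tr3`: `8 * tr j = ∑ i, (j • e8 i) i` (see the proof of `tr_sgn` in `Co1/Inv`); if `j` commutes with
`permHom s0` the summand is constant on the eight 3-cycles of `s0` (`permHom_e8`, `permHom_apply`), so the sum is
divisible by 3, while `CA (pr j)` gives `tr j = ±8` (`tr_of_pr`).
`co` (pure group theory; write `F` additively, `w`, `ζ` act): if none of `ζ, wζ, w²ζ` has a fixed point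
`≠ 1` in `F` then `f · f^x · f^{x²} = 1` for these three `x` and all `f ∈ F` (the product is fixed by `x`).  On
`I = (w - 1) F` one has `1 + w + w² = 0`; subtracting the three relations gives `ζ = w` and `ζ = w²` on `I`,
so `w = 1` on `I`, `3 = 0` on `I`, `I = 0`. -/

set_option autoImplicit false

namespace CL.PA

open Cfsg CL CL.Leech CL.LX CL.MSS CL.MT CL.MP CL.Rk Subgroup
open scoped commutatorElement
open CL.Co1T (CA CC pr)


theorem three_dvd_sum {α : Type*} [Fintype α] {σ : Equiv.Perm α} (h3 : σ ^ 3 = 1) (h0 : ∀ i, σ i ≠ i)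
    {f : α → ℤ} (hf : ∀ i, f (σ i) = f i) : 3 ∣ ∑ i, f i := by
  classical
  rw [← Finset.sum_fiberwise_of_maps_to (g := f) (t := Finset.univ.image f)
    fun i _ => Finset.mem_image_of_mem f (Finset.mem_univ i)]
  refine Finset.dvd_sum fun b _ => ?_
  rw [Finset.sum_congr rfl fun i hi => (Finset.mem_filter.1 hi).2, Finset.sum_const, nsmul_eq_mul]
  have := Equiv.Perm.card_fixedPoints_modEq (α := {i // f i = b}) (p := 3) (n := 1)
    (f := fun i => ⟨σ i, (hf i).trans i.2⟩) (funext fun i => Subtype.ext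
      (congrArg (fun g : Equiv.Perm α => g i) h3))
  rw [Fintype.card_subtype, Fintype.card_eq_zero_iff.2 ⟨fun i => h0 _ (congrArg Subtype.val i.2)⟩] at this
  exact (Int.natCast_dvd_natCast.2 ((Nat.modEq_zero_iff_dvd).1 this)).mul_right _

noncomputable local instance inv8t : Invertible (8 : ℚ) := Co1T.inv8

theorem tr_eq (j : Co0) : 8 * Co1T.tr j = ((∑ i, (j • e8 i).1 i : ℤ) : ℚ) := by
  rw [Co1T.tr, LinearMap.trace_eq_matrix_trace ℚ (Pi.basisFun ℚ GolayPt), Matrix.trace, Finset.mul_sum,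
    Int.cast_sum]
  refine Finset.sum_congr rfl fun i _ => ?_
  have h1 := congrFun (rhoR_castV ℚ j (e8 i)) i
  rw [castV_e8, map_smul] at h1
  simpa [LinearMap.toMatrix_apply, castV] using h1

theorem tr3 {j : Co0} (h : j * permHom C3B.s0 = permHom C3B.s0 * j) : ¬ CA (pr j) := by
  rintro ⟨x, -, h1, e⟩
  obtain ⟨c, hc⟩ := three_dvd_sum (σ := C3B.s0.1) (congrArg Subtype.val C3B.s0_pow)
    (fun i e => Finset.notMem_empty i (Finset.card_eq_zero.1 Golay.card_fixS_3B ▸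
      Finset.mem_filter.2 ⟨Finset.mem_univ i, e⟩)) (f := fun i => (j • e8 i).1 i) fun i => by
      simp only [← permHom_e8, ← mul_smul, h]
      rw [mul_smul, permHom_apply, Equiv.symm_apply_apply]
  have := tr_eq j
  rw [hc] at this
  rcases Co1T.tr_of_pr e with e | e <;> rw [e, h1] at this <;> norm_cast at this <;> omega

theorem co {G : Type*} [Group G] {F : Subgroup G} (cm : ∀ a ∈ F, ∀ b ∈ F, a * b = b * a)
    (sq : ∀ a ∈ F, a * a = 1) {w ζ : G} (w3 : w ^ 3 = 1) (ζ3 : ζ ^ 3 = 1) (e : w * ζ = ζ * w)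
    (hw : ∀ a ∈ F, cj w a ∈ F) (hζ : ∀ a ∈ F, cj ζ a ∈ F) :
    (∀ a ∈ F, w * a = a * w) ∨ ∃ b, (b = ζ ∨ b = w * ζ ∨ b = w ^ 2 * ζ) ∧
      ∃ y ∈ F, y ≠ 1 ∧ b * y = y * b := by
  by_contra hn
  simp only [not_or, not_exists, not_and] at hn
  have cc : ∀ a b f : G, cj a (cj b f) = cj (a * b) f := fun a b f => by simp [cj, mul_assoc]
  have N : ∀ {x : G}, (x = ζ ∨ x = w * ζ ∨ x = w ^ 2 * ζ) → x ^ 3 = 1 → (∀ a ∈ F, cj x a ∈ F) →
      ∀ f ∈ F, f * cj x f * cj (x * x) f = 1 := fun {x} hx x3 hF f hf => by_contra fun e => by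
    have m2 := cc x x f ▸ hF _ (hF f hf)
    refine hn.2 x hx _ (mul_mem (mul_mem hf (hF f hf)) m2) e (mul_inv_eq_iff_eq_mul.1 ?_)
    rw [← conj_mul, ← conj_mul]
    change cj x f * cj x (cj x f) * cj x (cj (x * x) f) = _
    rw [cc, cc, ← pow_three, x3, show cj 1 f = f by simp [cj],
      cm _ (mul_mem (hF f hf) m2) f hf, ← mul_assoc]
  have c : Commute w ζ := e
  have h1 : ∀ a ∈ F, cj (w * ζ) a ∈ F := fun a ha => cc w ζ a ▸ hw _ (hζ a ha)
  have h2 : ∀ a ∈ F, cj (w ^ 2 * ζ) a ∈ F := fun a ha => by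
    rw [pow_two, mul_assoc, ← cc]; exact hw _ (h1 a ha)
  refine hn.1 fun f hf => ?_
  have r1 := N (.inl rfl) ζ3 hζ _ (hw f hf)
  have r2 := N (.inl rfl) ζ3 hζ _ (hw _ (hw f hf))
  have r3 := N (.inr (.inl rfl)) (by rw [c.mul_pow, w3, ζ3, one_mul]) h1 f hf
  have r4 := N (.inr (.inr rfl)) (by
    rw [(c.pow_left 2).mul_pow, ← pow_mul, mul_comm 2, pow_mul, w3, ζ3]; simp) h2 f hf
  have e1 : ζ * (w * w) = w ^ 2 * ζ := by rw [← pow_two, (c.pow_left 2).eq]
  have e2 : ζ * ζ * (w * w) = w * ζ * (w * ζ) := by rw [← pow_two, ← pow_two, ← pow_two, c.mul_pow, (c.pow_pow 2 2).eq]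
  have e3 : w ^ 2 * ζ * (w ^ 2 * ζ) = ζ * ζ * w := by
    rw [(c.pow_left 2).symm.mul_mul_mul_comm, ← pow_add, pow_succ, w3, one_mul,
      (c.mul_right c).eq]
  rw [cc, cc, ← e] at r1
  rw [cc, cc, cc, e1, e2] at r2
  rw [e3] at r4
  have mq : cj (ζ * ζ * w) f ∈ F := by rw [mul_assoc, ← cc, ← cc]; exact hζ _ (hζ _ (hw f hf))
  have ms : cj (w * ζ * (w * ζ)) f ∈ F := cc _ _ f ▸ h1 _ (h1 f hf)
  have hq := sq _ mq
  have hs := sq _ ms
  have hqs := cm _ mq _ ms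
  generalize cj (ζ * ζ * w) f = q at *
  generalize cj (w * ζ * (w * ζ)) f = s at *
  generalize cj (w * ζ) f = p at r1 r3
  generalize cj (w ^ 2 * ζ) f = r at r2 r4
  have a1 : p * s = r * q := mul_left_cancel (a := f) (by rw [← mul_assoc, ← mul_assoc, r3, r4])
  have a2 : p * q = r * s := by
    calc p * q = p * s * (s * q) := by rw [mul_assoc, ← mul_assoc s, hs, one_mul]
      _ = r * s := by rw [a1, ← hqs, mul_assoc, ← mul_assoc q, hq, one_mul]
  have a3 : cj w f = cj (w * w) f := mul_right_cancel (b := p * q) (by rw [← mul_assoc, r1, a2, ← mul_assoc, r2])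
  rw [← cc, cj, cj, mul_left_inj, mul_right_inj] at a3
  exact mul_inv_eq_iff_eq_mul.1 a3.symm

end CL.PA
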