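import Mathlib
import Cfsg.Agent.SPOR.PA.Cfg

/-! An involution over a dodecad determines its frame. -/

set_option autoImplicit false

namespace CL.PA

open Cfsg CL CL.Leech CL.LX CL.MSS CL.MT CL.MP CL.Rk Subgroup
open scoped commutatorElement
open CL.Co1T


variable {G : Type*} [Group G] [Finite G] {y z s : G} {R : leechLattice → G → Prop}
  {A : Co0 → G → Prop}

theorem Cx.un_of_cc (h : Cx z R A) {k : Co0} (hk : A k s) (hc : CC (pr k)) : Un z s := by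
  have key : ∀ y, IsConj z y → y ≠ z → y ∈ QQ z → s ∈ QQ y →
      ∃ m, R (m • e8 none) y ∧ Dod (pr (m⁻¹ * k * m)) := fun y a b c d => by
    obtain ⟨v, hv, h64⟩ := h.mt.norm_of_conj c a b
    obtain ⟨m, -, hm⟩ := h.exists_twist hv h64
    obtain ⟨e, he⟩ := exists_sgn ((h.twist m).sgn hm d (k := m⁻¹ * k * m) (by simpa [mul_assoc] using hk))
    refine ⟨m, hm, CC.dod ?_ (he ▸ sgn_mem_A0 e)⟩
    simpa using hc.conj (pr m)⁻¹
  intro y y' a a' b b' c c' d d'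
  obtain ⟨m, hm, t⟩ := key y a b c d
  obtain ⟨m', hm', t'⟩ := key y' a' b' c' d'
  obtain ⟨g, hg, e⟩ := t.conj t'
  have h1 : (pr m)⁻¹ * pr m' * g ∈ N0 := t.cent (by
    simp only [map_mul, map_inv] at e ⊢
    calc _ = (pr m)⁻¹ * pr m' * (g * ((pr m)⁻¹ * pr k * pr m) * g⁻¹) * g := by group
      _ = _ := by rw [e]; group)
  have h2 : m⁻¹ * m' ∈ St (e8 none) := by
    rw [St_e8, ← pr_mem_N0, map_mul, map_inv]; exact (mul_mem_cancel_right hg).1 h1
  refine (h.mt.R_cong hm hm').1 (Cong.symm ?_)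
  simpa [mul_smul] using (mem_St.1 h2).smul m

theorem Cx.un_of_dod (h : Cx y R A) (hz : R (e8 none) z) {σ : leechLattice} (hs : R σ s)
    {a : GolayPt → ℤ} {D : Finset GolayPt} (hD : D ∈ Golay.Code) (h12 : D.card = 12)
    (ha : ∀ i, σ.1 i = 2 * a i) (hr : red a = ind D) : Un z s := by
  obtain ⟨R', A', c, k, h', -, hk, m, hc⟩ := h.tri hz hs ha
  have m' : Mn (Leech.sgn ⟨D, hD⟩) 1 (sg (ind D)) := mn_mono 1 ⟨D, hD⟩
  refine h'.un_of_cc hk (Dod.cc ⟨⟨D, hD⟩, h12, ?_⟩)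
  rcases hc with e | e <;> rw [e, hr] at m
  · rw [m.ext m']
  · rw [← pr_neg1_mul (Leech.sgn _), m.ext (g' := neg1 * Leech.sgn ⟨D, hD⟩) ?_]
    convert mn_neg.mul m' using 1
    · rfl
    funext i
    rw [sg_add, mul_comm]; rfl

end CL.PA
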