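import Mathlib
import Cfsg.Agent.SPOR.PA.Cfg
import Cfsg.Agent.FGS.SylowNum

/-! (S2198, helper88). Minimal preimages of a simple group (pure finite group theory).
`exists_min`: take `H ≤ A` of least order mapping onto `X`.
`Min.normal_cases`: the image of a normal subgroup is normal.  `Min.perfect`: the commutator subgroup maps onto
the perfect group `X`.
`Min.central`: pick `x ∈ H` of `r`-power order outside the kernel (Cauchy in `X`, then the `r`-part of a preimage).
`⟨x⟩` acts on `P` by conjugation; `|P| ≡ |C_P(x)|` mod `r` (`IsPGroup.card_modEq_card_fixedPoints`),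
`|P| = p^n`, `|C_P(x)| = p^a`, so `p^(n-a) ≡ 1` mod `r`, `a = n`.  Then `centralizer P` is normal and not in
the kernel, so it is `⊤`.
`Min.red`: Frattini (`Sylow.normalizer_sup_eq_top`): each Sylow subgroup of the kernel `K` is normal in `H`
(its normaliser maps onto `X`); for odd `p` it is central by `hr` (`p^n * |X| ∣ |H|`); `P` = Sylow 2 of `K`,
`O` = the product of the odd Sylow subgroups (e.g. `O = {k ∈ K ⊓ center | k of odd order}`), compare orders.
`Min.inv`: `E = {x ∈ P ⊓ centralizer P | x * x = 1}` is a nontrivial normal elementary abelian subgroup,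
`|E| = 2^n`, `n ≤ 15`; `Min.central`. -/

set_option autoImplicit false

namespace CL.PA

open Cfsg CL CL.Leech CL.LX CL.MSS CL.MT CL.MP CL.Rk Subgroup
open scoped commutatorElement


variable {H X : Type*} [Group H] [Group X] {π : H →* X}

theorem exists_min {G : Type*} [Group G] [Finite G] (A : Subgroup G) (f : A →* X)
    (hf : Function.Surjective f) : ∃ (K : Subgroup G) (ρ : K →* X), Min ρ := by
  induction A using WellFoundedLT.induction with
  | ind A ih =>
    by_cases h : ∀ K : Subgroup A, K.map f = ⊤ → K = ⊤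
    · exact ⟨A, f, hf, h⟩
    push Not at h
    obtain ⟨K, h1, h2⟩ := h
    refine ih (K.map A.subtype) (lt_of_le_of_ne (map_subtype_le K) fun e => h2 ?_)
      (f.comp (inclusion (map_subtype_le K))) fun x => ?_
    · refine eq_top_iff.2 fun a _ => ?_
      obtain ⟨b, hb, e'⟩ := e.ge a.2
      exact (Subtype.ext e' : b = a) ▸ hb
    · obtain ⟨k, hk, rfl⟩ := h1.ge (mem_top x)
      exact ⟨⟨k, k, hk, rfl⟩, rfl⟩

theorem Min.normal_cases [IsSimpleGroup X] (h : Min π) (N : Subgroup H) [N.Normal] :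
    N ≤ π.ker ∨ N = ⊤ := by
  exact ((Normal.map ‹_› π h.1).eq_bot_or_eq_top).imp (Subgroup.map_eq_bot_iff N).1 (h.2 N)

theorem Min.perfect (h : Min π) (hX : commutator X = ⊤) : commutator H = ⊤ := by
  exact h.2 _ (by rw [commutator_def, map_commutator, map_top_of_surjective π h.1, ← commutator_def, hX])

theorem Min.central [Finite H] [IsSimpleGroup X] (h : Min π) (P : Subgroup H) [P.Normal] {p n r : ℕ}
    (hp : p.Prime) (hP : Nat.card P = p ^ n) (hr : r.Prime) (hne : r ≠ p) (hX : r ∣ Nat.card X)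
    (hm : ∀ m, 0 < m → m ≤ n → p ^ m % r ≠ 1) : P ≤ center H := by
  have := Fact.mk hr
  have := Finite.of_surjective π h.1
  obtain ⟨R⟩ : Nonempty (Sylow r H) := inferInstance
  have h1 := CL.SN.relIndex_centralizer_modEq_one R.isPGroup' (K := P) le_normalizer_of_normal (by
    rw [hP]; exact fun e => hne ((Nat.prime_dvd_prime_iff_eq hr hp).1 (hr.dvd_of_dvd_pow e)))
  obtain ⟨m, h2, h3⟩ := (Nat.dvd_prime_pow hp).1 (hP ▸ relIndex_dvd_card (centralizer (R : Set H)) P)
  have h4 : P ≤ centralizer (R : Set H) := relIndex_eq_one.1 (by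
    rcases m.eq_zero_or_pos with rfl | e
    · exact h3
    · exact absurd (by rw [← h3]; exact Eq.trans h1 (Nat.mod_eq_of_lt hr.one_lt)) (hm m e h2))
  rcases h.normal_cases (centralizer (P : Set H)) with e | e
  · exact absurd ((Subgroup.map_eq_bot_iff _).2 ((le_centralizer_iff.1 h4).trans e))
      ((R.mapSurjective h.1).ne_bot_of_dvd_card hX)
  · exact centralizer_eq_top_iff_subset.1 e

theorem Min.red [Finite H] [IsSimpleGroup X] (h : Min π)
    (hr : ∀ p n : ℕ, p.Prime → p ≠ 2 → p ^ n * Nat.card X ∣ Nat.card H → n = 0 ∨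
      ∃ r, r.Prime ∧ r ≠ p ∧ r ∣ Nat.card X ∧ ∀ m, 0 < m → m ≤ n → p ^ m % r ≠ 1) :
    ∃ P O : Subgroup H, P.Normal ∧ IsPGroup 2 P ∧ O ≤ center H ∧ Odd (Nat.card O) ∧
      P ⊔ O = π.ker := by
  have nm : ∀ (p : ℕ) [Fact p.Prime] (S : Sylow p π.ker), ((S : Subgroup π.ker).map π.ker.subtype).Normal :=
    fun p _ S => normalizer_eq_top_iff.1 (h.2 _ (by
      have := congrArg (map π) S.normalizer_sup_eq_top
      rwa [Subgroup.map_sup, map_top_of_surjective π h.1, (Subgroup.map_eq_bot_iff _).2 le_rfl, sup_bot_eq] at this))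
  let O : Subgroup H :=
    { carrier := {k | (k ∈ π.ker ∧ k ∈ center H) ∧ Odd (orderOf k)}
      mul_mem' := fun {a b} ha hb => ⟨⟨mul_mem ha.1.1 hb.1.1, mul_mem ha.1.2 hb.1.2⟩,
        (ha.2.mul hb.2).of_dvd_nat
          (Commute.orderOf_mul_dvd_mul_orderOf (mem_center_iff.1 hb.1.2 a))⟩
      one_mem' := ⟨⟨one_mem _, one_mem _⟩, by simp⟩
      inv_mem' := fun ha => ⟨⟨inv_mem ha.1.1, inv_mem ha.1.2⟩, by simpa using ha.2⟩ }
  obtain ⟨S⟩ : Nonempty (Sylow 2 π.ker) := inferInstance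
  refine ⟨_, O, nm 2 S, S.isPGroup'.map _, fun k hk => hk.1.2, ?_, le_antisymm
    (sup_le (map_subtype_le _) fun k hk => hk.1.1) ?_⟩
  · rw [← Nat.not_even_iff_odd, even_iff_two_dvd]
    intro e
    obtain ⟨k, hk⟩ := exists_prime_orderOf_dvd_card' 2 e
    have := k.2.2
    rw [orderOf_coe, hk] at this
    exact absurd this (by decide)
  rw [← relIndex_eq_one, Nat.eq_one_iff_not_exists_prime_dvd]
  intro p hp e
  have := Fact.mk hp
  by_cases h2 : p = 2
  · subst h2
    exact S.not_dvd_index (e.trans (index_dvd_of_le fun k hk => mem_sup_left ⟨k, hk, rfl⟩))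
  obtain ⟨T⟩ : Nonempty (Sylow p π.ker) := inferInstance
  refine T.not_dvd_index (e.trans (index_dvd_of_le fun k hk => mem_sup_right ⟨⟨k.2, ?_⟩, ?_⟩))
  · have := nm p T
    obtain ⟨n, hn⟩ := IsPGroup.iff_card.1 (T.isPGroup'.map π.ker.subtype)
    rcases hr p n hp h2 (by
      rw [← hn, ← π.ker.card_mul_index, index_ker, MonoidHom.range_eq_top.2 h.1, card_top]
      exact Nat.mul_dvd_mul_right (card_dvd_of_le (map_subtype_le _)) _) with rfl | ⟨r, a, b, c, d⟩
    · exact (card_eq_one.1 hn).le.trans bot_le ⟨k, hk, rfl⟩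
    · exact h.central _ hp hn a b c d ⟨k, hk, rfl⟩
  · obtain ⟨n, hn⟩ := T.isPGroup' ⟨k, hk⟩
    exact ((hp.odd_of_ne_two h2).pow (n := n)).of_dvd_nat
      (orderOf_dvd_of_pow_eq_one (congrArg (fun x => x.1.1) hn))

theorem Min.inv [Finite H] [IsSimpleGroup X] (h : Min π) (P : Subgroup H) [P.Normal]
    (hP : IsPGroup 2 P) (h1 : P ≠ ⊥) {r : ℕ} (hr : r.Prime) (hne : r ≠ 2) (hX : r ∣ Nat.card X)
    (hm : ∀ m, 0 < m → m ≤ 15 → 2 ^ m % r ≠ 1)
    (rank : ∀ E : Subgroup H, (∀ x ∈ E, ∀ y ∈ E, x * y = y * x) → (∀ x ∈ E, x * x = 1) →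
      Nat.card E ≤ 2 ^ 15) : ∃ t ∈ center H, t * t = 1 ∧ t ≠ 1 := by
  let E : Subgroup H :=
    { carrier := {x | (x ∈ P ∧ x ∈ centralizer (P : Set H)) ∧ x * x = 1}
      mul_mem' := fun {a b} ha hb => ⟨⟨mul_mem ha.1.1 hb.1.1, mul_mem ha.1.2 hb.1.2⟩, by
        rw [mul_assoc, ← mul_assoc b, ha.1.2 b hb.1.1, mul_assoc, hb.2, mul_one, ha.2]⟩
      one_mem' := ⟨⟨one_mem _, one_mem _⟩, by simp⟩
      inv_mem' := fun ha => ⟨⟨inv_mem ha.1.1, inv_mem ha.1.2⟩, by rw [← mul_inv_rev, ha.2, inv_one]⟩ }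
  have : E.Normal := ⟨fun a ha g => ⟨⟨Normal.conj_mem ‹_› a ha.1.1 g,
    Normal.conj_mem inferInstance a ha.1.2 g⟩, by rw [conj_mul, ha.2]; simp⟩⟩
  obtain ⟨n, hn⟩ := IsPGroup.iff_card.1 (hP.to_le (show E ≤ P from fun a ha => ha.1.1))
  have h15 := rank E (fun x hx y hy => hy.1.2 x hx.1.1) fun x hx => hx.2
  rw [hn, Nat.pow_le_pow_iff_right (by decide)] at h15
  have hE := h.central E Nat.prime_two hn hr hne hX fun m a b => hm m a (b.trans h15)
  have := (nontrivial_iff_ne_bot P).2 h1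
  have := hP.center_nontrivial
  obtain ⟨m, a, b⟩ := (hP.to_subgroup (center P)).nontrivial_iff_card.1 inferInstance
  obtain ⟨t, ht⟩ := exists_prime_orderOf_dvd_card' (G := center P) 2 (b ▸ dvd_pow_self 2 a.ne')
  have t2 : t.1.1 * t.1.1 = 1 := congrArg (fun x : center P => x.1.1) ((sq t).symm.trans (ht ▸ pow_orderOf_eq_one t))
  refine ⟨t.1.1, hE ⟨⟨t.1.2, fun g hg => congrArg Subtype.val (mem_center_iff.1 t.2 ⟨g, hg⟩)⟩, t2⟩, t2, fun e => ?_⟩
  rw [show t = 1 from Subtype.ext (Subtype.ext e), orderOf_one] at ht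
  exact absurd ht (by decide)

end CL.PA
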