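import Mathlib
import Cfsg.Agent.SPOR.PA.Red
import Cfsg.Agent.ODD.BG3.FixDim
import Cfsg.Agent.SOLV.Primitive
import Cfsg.Agent.S0055

/-! S2198. A normal 2-subgroup `P` of `H` is central (pure finite group theory).
PROOF. Suppose not.  `Z = P ⊓ center H`, `Y = {a ∈ P | a * a ∈ Z ∧ ∀ b ∈ P, ⁅a, b⁆ ∈ Z}` (`Y/Z = Ω₁ Z(P/Z) ≠ 1`),
normal in `H`.  (1) `x` does not centralise `Y/Z`: else the normal subgroup `{c | ∀ a ∈ Y, ⁅c, a⁆ ∈ Z}`
contains `x ∉ ker`, is `⊤` (`Min.normal_cases`), and three subgroups/perfectness (`c ↦ ⁅c, a⁆` is a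
homomorphism `H → Z`, trivial on `commutator H = ⊤`) gives `Y ≤ Z`.  (2) `T = ⁅Y, ⟨x⟩⁆ ≠ 1`, normalised by `x` and `n`;
`T = ⁅T, ⟨x⟩⁆` (coprime), `T' = ⁅T, T⁆ ≤ Z`; on the abelian group `V = T/T'` `x` acts without fixed points,
so `T ⊓ Z = T'`, `V` is elementary abelian, `T'` is elementary abelian (`⁅a, b⁆² = ⁅a², b⁆ = 1`), and
`|V| ≡ 1` mod 19 gives `|V| = 2^(18k)`, `k ≥ 1`.  (3) `T' = 1` contradicts `rank`.  So there is a central involution
`t ∈ T'`, `|P| ≤ 2^35` (`hA`), `|V| = 2^18`, and `V` has no proper `x`-invariant subgroup `≠ 1` (same count).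
(4) `|T'| = 2` contradicts the second part of `hA` with `E = T` of order `2^19`.  (5) `|T'| ≥ 4`: `n` acts on `V` with
`n^9 = 1`; Wielandt (`CL.BG3.wielandt_frobenius` in the semidirect product / in `H/ (center)`-action, or directly:
`V` is a free `F₂⟨n⟩`-module) gives `|C_V(n)| = 4`, spanned by `u, v`.  Choose `φ : T' → ZMod 2` nonzero with
`φ ⁅u, v⁆ = 0`.  The form `β(a, b) = φ ⁅a, b⁆` on `V` is invariant under `x`, `n` and nonzero (`T'` is generated by
commutators), so its radical is trivial; for `a ∈ C_V(n)` and any `b`, `β(a, b) = β(a, ∏ b^{n^i})` (nine factors)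
`= 0` because `β` vanishes on `C_V(n)`; so `C_V(n) = 1`, contradiction. -/

set_option autoImplicit false

namespace CL.PA

open Cfsg CL CL.Leech CL.LX CL.MSS CL.MT CL.MP CL.Rk Subgroup
open scoped commutatorElement


namespace L19

variable {H : Type*} [Group H]

theorem dvd18 {m : ℕ} (h : 2 ^ m ≡ 1 [MOD 19]) : 18 ∣ m := by
  have h1 : 2 ^ (18 * (m / 18)) ≡ 1 [MOD 19] := by
    rw [pow_mul]
    simpa using (show 2 ^ 18 ≡ 1 [MOD 19] by decide).pow (m / 18)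
  have h2 : 2 ^ (m % 18) ≡ 1 [MOD 19] := by
    have := h1.mul_right (2 ^ (m % 18))
    rw [← pow_add, Nat.div_add_mod, one_mul] at this
    exact this.symm.trans h
  have h3 : ∀ r < 18, 2 ^ r ≡ 1 [MOD 19] → r = 0 := by decide
  exact Nat.dvd_of_mod_eq_zero (h3 _ (Nat.mod_lt _ (by norm_num)) h2)

theorem conj_pow_pow {x n : H} {k : ℕ} (hn : n * x * n⁻¹ = x ^ k) (i : ℕ) :
    n ^ i * x * (n ^ i)⁻¹ = x ^ k ^ i := by
  induction i with
  | zero => simp
  | succ i ih =>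
    calc n ^ (i + 1) * x * (n ^ (i + 1))⁻¹ = n ^ i * (n * x * n⁻¹) * (n ^ i)⁻¹ := by
          rw [pow_succ]; group
      _ = (n ^ i * x * (n ^ i)⁻¹) ^ k := by rw [hn, conj_pow]
      _ = x ^ k ^ (i + 1) := by rw [ih, ← pow_mul, ← pow_succ]

theorem norm_zp [Finite H] {x n : H} {k : ℕ} (hn : n * x * n⁻¹ = x ^ k) :
    n ∈ normalizer (zpowers x : Set H) := by
  refine mem_normalizer_fintype ?_
  rintro _ ⟨m, rfl⟩
  show n * x ^ m * n⁻¹ ∈ zpowers x
  rw [← conj_zpow, hn]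
  exact zpow_mem (npow_mem_zpowers x k) m

theorem cop {W : Subgroup H} [Finite W] (hW : IsPGroup 2 W) {m : ℕ} (hm : Odd m) :
    (Nat.card W).Coprime m := by
  have : Fact (Nat.Prime 2) := ⟨Nat.prime_two⟩
  obtain ⟨k, hk⟩ := hW.exists_card_eq
  rw [hk]; exact (Nat.coprime_two_left.2 hm).pow_left k

theorem exists_W [Finite H] (P : Subgroup H) [P.Normal] (hP : IsPGroup 2 P) (h1 : P ≠ ⊥) {x n : H}
    (xo : orderOf x = 19) (hn : n * x * n⁻¹ = x ^ 4)
    (hxc : ∀ Y : Subgroup H, Y.Normal → Y ≠ ⊥ → ¬ Y ≤ centralizer (zpowers x : Set H)) :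
    ∃ W : Subgroup H, W ≤ P ∧ W ≠ ⊥ ∧ (∀ a ∈ W, ∀ b ∈ W, a * b = b * a) ∧ (∀ a ∈ W, a * a = 1) ∧
      x ∈ normalizer (W : Set H) ∧ n ∈ normalizer (W : Set H) ∧
      W ⊓ centralizer (zpowers x : Set H) = ⊥ := by
  have : Fact (Nat.Prime 2) := ⟨Nat.prime_two⟩
  let Y : Subgroup H :=
    { carrier := {a | a ∈ P ∧ (∀ b ∈ P, a * b = b * a) ∧ a * a = 1}
      one_mem' := ⟨one_mem _, fun b _ => by simp, one_mul 1⟩
      mul_mem' := fun {a b} ha hb => ⟨mul_mem ha.1 hb.1, fun c hc => by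
        rw [mul_assoc, hb.2.1 c hc, ← mul_assoc, ha.2.1 c hc, mul_assoc], by
        rw [mul_assoc, ← mul_assoc b, ← ha.2.1 b hb.1, mul_assoc, hb.2.2, mul_one, ha.2.2]⟩
      inv_mem' := fun {a} ha => by rw [inv_eq_of_mul_eq_one_right ha.2.2]; exact ha }
  have hYn : Y.Normal := ⟨fun a ha g => ⟨Normal.conj_mem inferInstance a ha.1 g, fun b hb => by
    have := ha.2.1 _ (Normal.conj_mem inferInstance b hb g⁻¹)
    calc g * a * g⁻¹ * b = g * (a * (g⁻¹ * b * g⁻¹⁻¹)) * g⁻¹ := by group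
      _ = _ := by rw [this]; group, by rw [conj_mul, ha.2.2]; group⟩⟩
  have hY1 : Y ≠ ⊥ := by
    have : Nontrivial P := (nontrivial_iff_ne_bot P).2 h1
    have := hP.center_nontrivial
    obtain ⟨k, hk0, hk⟩ := (hP.to_subgroup (center P)).nontrivial_iff_card.1 inferInstance
    obtain ⟨z, hz⟩ := exists_prime_orderOf_dvd_card' (G := center P) 2
      (hk ▸ dvd_pow_self 2 hk0.ne')
    refine ne_bot_iff_exists_ne_one.2 ⟨⟨z.1.1, z.1.2, fun b hb =>
      congrArg Subtype.val (mem_center_iff.1 z.2 ⟨b, hb⟩).symm, ?_⟩, fun e => ?_⟩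
    · have := pow_orderOf_eq_one z
      rw [hz, sq] at this
      exact congrArg (fun w : center P => ((w : P) : H)) this
    · have : z = 1 := Subtype.ext (Subtype.ext (congrArg (fun w : Y => (w : H)) e))
      rw [this, orderOf_one] at hz
      omega
  have hYc : IsMulCommutative Y := ⟨⟨fun a b => Subtype.ext (a.2.2.1 b b.2.1)⟩⟩
  have hnY : ∀ A : Subgroup H, A ≤ normalizer (Y : Set H) := fun A => by
    rw [normalizer_eq_top]; exact le_top
  obtain ⟨e1, e2⟩ := Cfsg.Agent.S0055.result (zpowers x) Y (hnY _)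
    (cop (hP.to_le (show Y ≤ P from fun a ha => ha.1)) (by rw [Nat.card_zpowers, xo]; decide)).symm
  have hle : ⁅Y, zpowers x⁆ ≤ Y := commutator_le_left _ _
  refine ⟨⁅Y, zpowers x⁆, hle.trans fun a ha => ha.1, fun e => hxc Y hYn hY1 ?_,
    fun a ha b hb => (hle ha).2.1 b (hle hb).1, fun a ha => (hle ha).2.2,
    CL.le_normalizer_commutator (hnY _) le_normalizer (mem_zpowers x),
    CL.le_normalizer_commutator (hnY _) (zpowers_le.2 (norm_zp hn)) (mem_zpowers n), ?_⟩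
  · rw [e, sup_bot_eq] at e2
    exact e2.ge.trans inf_le_right
  · exact eq_bot_iff.2 fun a ha => e1.le ⟨⟨hle ha.1, ha.2⟩, ha.1⟩

theorem surj [Finite H] {W : Subgroup H} {x : H} (hx : x ∈ normalizer (W : Set H))
    (hfix : W ⊓ centralizer (zpowers x : Set H) = ⊥) {w : H} (hw : w ∈ W) :
    ∃ a ∈ W, x * a * x⁻¹ * a⁻¹ = w := by
  let f : W → W := fun b => ⟨x * b.1 * x⁻¹ * b.1⁻¹,
    W.mul_mem ((mem_normalizer_iff.1 hx _).1 b.2) (W.inv_mem b.2)⟩
  have hinj : Function.Injective f := by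
    intro b c e
    have e' : x * b.1 * x⁻¹ * b.1⁻¹ = x * c.1 * x⁻¹ * c.1⁻¹ := congrArg Subtype.val e
    have h1 : c.1⁻¹ * b.1 ∈ W ⊓ centralizer (zpowers x : Set H) := by
      refine ⟨W.mul_mem (W.inv_mem c.2) b.2, ?_⟩
      rintro _ ⟨m, rfl⟩
      refine (Commute.zpow_left ?_ m).eq
      show x * (c.1⁻¹ * b.1) = c.1⁻¹ * b.1 * x
      calc x * (c.1⁻¹ * b.1) = x * c.1⁻¹ * x⁻¹ * (x * b.1 * x⁻¹ * b.1⁻¹) * b.1 * x := by group
        _ = _ := by rw [e']; group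
    rw [hfix, mem_bot] at h1
    exact Subtype.ext (inv_mul_eq_one.1 h1).symm
  obtain ⟨b, hb⟩ := Finite.surjective_of_injective hinj ⟨w, hw⟩
  exact ⟨b, b.2, congrArg Subtype.val hb⟩

theorem card_fix [Finite H] {W : Subgroup H} {x n : H} (xo : orderOf x = 19)
    (hn : n * x * n⁻¹ = x ^ 4) (n9 : n ^ 9 = 1) (hW : IsPGroup 2 W) (h18 : Nat.card W = 2 ^ 18)
    (hx : x ∈ normalizer (W : Set H)) (hnW : n ∈ normalizer (W : Set H))
    (hfix : W ⊓ centralizer (zpowers x : Set H) = ⊥) :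
    Nat.card ↥(W ⊓ centralizer (zpowers n : Set H)) = 4 := by
  classical
  have : Fact (Nat.Prime 2) := ⟨Nat.prime_two⟩
  have : Fact (Nat.Prime 3) := ⟨Nat.prime_three⟩
  have : Fact (Nat.Prime 19) := ⟨by norm_num⟩
  have key : ∀ i < 9, n ^ i * x = x * n ^ i → i = 0 := by
    intro i hi h
    have h1 := conj_pow_pow hn i
    rw [h, mul_inv_cancel_right] at h1
    have h2 := pow_eq_pow_iff_modEq.1 (show x ^ 1 = x ^ 4 ^ i by rwa [pow_one])
    rw [xo] at h2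
    revert h2
    interval_cases i <;> decide
  have no : orderOf n = 9 := orderOf_eq_prime_pow (p := 3) (n := 1) (fun e => by
    have := key 3 (by norm_num) (by rw [show n ^ 3 = 1 from e, one_mul, mul_one])
    omega) n9
  have := hW.isNilpotent
  have h := CL.BG3.wielandt_frobenius (K := zpowers x) (R := zpowers n) (M := W)
    (zpowers_le.2 (norm_zp hn)) (fun r hr r1 => by
      obtain ⟨i, hi, rfl⟩ := Finset.mem_image.1 (mem_zpowers_iff_mem_range_orderOf.1 hr)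
      rw [no, Finset.mem_range] at hi
      have hd : Nat.card ↥(zpowers x ⊓ centralizer {n ^ i}) ∣ 19 := by
        rw [← xo, ← Nat.card_zpowers]; exact card_dvd_of_le inf_le_left
      rcases (Nat.dvd_prime (by norm_num)).1 hd with h | h
      · exact eq_bot_of_card_eq _ h
      · have e := eq_of_le_of_card_ge (inf_le_left : zpowers x ⊓ centralizer {n ^ i} ≤ _)
          (by rw [h, Nat.card_zpowers, xo])
        have h1 : x ∈ zpowers x ⊓ centralizer {n ^ i} := by rw [e]; exact mem_zpowers x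
        rw [key i hi (mem_centralizer_singleton_iff.1 h1.2).symm, pow_zero] at r1
        exact absurd rfl r1)
    (zpowers_le.2 hx) (zpowers_le.2 hnW) inferInstance
    (cop hW (by rw [Nat.card_zpowers, xo]; decide)) (cop hW (by rw [Nat.card_zpowers, no]; decide))
  have e : W ⊓ centralizer ((zpowers x ⊔ zpowers n : Subgroup H) : Set H) = ⊥ :=
    eq_bot_iff.2 ((inf_le_inf_left _ (centralizer_le (SetLike.coe_subset_coe.2 le_sup_left))).trans
      hfix.le)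
  rw [e, hfix, card_bot, one_pow, one_mul, mul_one, Nat.card_zpowers, no, h18] at h
  exact Nat.pow_left_injective (by norm_num : 9 ≠ 0) (h.symm.trans (by norm_num))

/-- the subgroup `{1, t}` -/
def S2 (t : H) (h : t * t = 1) : Subgroup H where
  carrier := {s | s = 1 ∨ s = t}
  one_mem' := Or.inl rfl
  mul_mem' := by
    rintro a b (rfl | rfl) (rfl | rfl)
    · exact Or.inl (one_mul 1)
    · exact Or.inr (one_mul _)
    · exact Or.inr (mul_one _)
    · exact Or.inl h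
  inv_mem' := by
    rintro a (rfl | rfl)
    · exact Or.inl inv_one
    · exact Or.inr (inv_eq_of_mul_eq_one_right h)

/-- commutators and squares are central -/
structure Ct (T : Subgroup H) : Prop where
  com : ∀ a ∈ T, ∀ b ∈ T, ⁅a, b⁆ ∈ center H
  sqc : ∀ a ∈ T, a * a ∈ center H

variable {T : Subgroup H}

theorem Ct.mul_left (C : Ct T) (a : H) {b c : H} (hb : b ∈ T) (hc : c ∈ T) :
    ⁅a * b, c⁆ = ⁅b, c⁆ * ⁅a, c⁆ := by
  calc ⁅a * b, c⁆ = a * ⁅b, c⁆ * a⁻¹ * ⁅a, c⁆ := by simp only [commutatorElement_def]; group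
    _ = _ := by rw [mem_center_iff.1 (C.com b hb c hc) a, mul_inv_cancel_right]

theorem Ct.mul_right (C : Ct T) {a : H} (b : H) {c : H} (ha : a ∈ T) (hc : c ∈ T) :
    ⁅a, b * c⁆ = ⁅a, b⁆ * ⁅a, c⁆ := by
  calc ⁅a, b * c⁆ = ⁅a, b⁆ * (b * ⁅a, c⁆ * b⁻¹) := by simp only [commutatorElement_def]; group
    _ = _ := by rw [mem_center_iff.1 (C.com a ha c hc) b, mul_inv_cancel_right]

theorem comm_center {z : H} (hz : z ∈ center H) (b : H) : ⁅z, b⁆ = 1 :=
  commutatorElement_eq_one_iff_mul_comm.2 (mem_center_iff.1 hz b).symm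

theorem Ct.sq (C : Ct T) {a b : H} (ha : a ∈ T) (hb : b ∈ T) : ⁅a, b⁆ * ⁅a, b⁆ = 1 := by
  rw [← C.mul_left a ha hb, comm_center (C.sqc a ha)]

theorem Ct.conj (C : Ct T) (g : H) {a b : H} (ha : a ∈ T) (hb : b ∈ T) :
    ⁅g * a * g⁻¹, g * b * g⁻¹⁆ = ⁅a, b⁆ := by
  rw [← conjugate_commutatorElement, mem_center_iff.1 (C.com a ha b hb) g, mul_inv_cancel_right]

/-- elements with squares in `S` -/
def Ct.E (_ : Ct T) (S : Subgroup H) (hc : ∀ a ∈ T, ∀ b ∈ T, ⁅a, b⁆ ∈ S) : Subgroup H where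
  carrier := {a | a ∈ T ∧ a * a ∈ S}
  one_mem' := ⟨one_mem _, by rw [one_mul]; exact one_mem _⟩
  mul_mem' := fun {a b} ha hb => ⟨mul_mem ha.1 hb.1, by
    rw [show a * b * (a * b) = a * a * ⁅a⁻¹, b⁆ * (b * b) by
      simp only [commutatorElement_def]; group]
    exact mul_mem (mul_mem ha.2 (hc _ (inv_mem ha.1) _ hb.1)) hb.2⟩
  inv_mem' := fun {a} ha => ⟨inv_mem ha.1, by rw [← mul_inv_rev]; exact inv_mem ha.2⟩

theorem Ct.mem_E (C : Ct T) {S : Subgroup H} (hc : ∀ a ∈ T, ∀ b ∈ T, ⁅a, b⁆ ∈ S) {x a : H}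
    (ha : a ∈ T) (hx : x * a * x⁻¹ ∈ T) : x * a * x⁻¹ * a⁻¹ ∈ C.E S hc := by
  refine ⟨mul_mem hx (inv_mem ha), ?_⟩
  have h1 : x * a * x⁻¹ * (x * a * x⁻¹) = a * a := by
    rw [conj_mul, mem_center_iff.1 (C.sqc a ha) x, mul_inv_cancel_right]
  generalize x * a * x⁻¹ = c at h1 hx
  rw [show c * a⁻¹ * (c * a⁻¹) = c * c * ⁅c⁻¹, a⁻¹⁆ * (a * a)⁻¹ by
    simp only [commutatorElement_def]; group, h1, ← mem_center_iff.1 (C.sqc a ha),
    mul_inv_cancel_right]
  exact hc _ (inv_mem hx) _ (inv_mem ha)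

/-- the radical modulo `S` -/
def Ct.R (C : Ct T) (S : Subgroup H) (B : Set H) (hB : B ⊆ T) : Subgroup H where
  carrier := {a | a ∈ T ∧ ∀ b ∈ B, ⁅a, b⁆ ∈ S}
  one_mem' := ⟨one_mem _, fun b _ => by rw [commutatorElement_one_left]; exact one_mem _⟩
  mul_mem' := fun {a b} ha hb => ⟨mul_mem ha.1 hb.1, fun c hc => by
    rw [C.mul_left a hb.1 (hB hc)]; exact mul_mem (hb.2 c hc) (ha.2 c hc)⟩
  inv_mem' := fun {a} ha => ⟨inv_mem ha.1, fun c hc => by
    have := C.mul_left a⁻¹ ha.1 (hB hc)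
    rw [inv_mul_cancel, commutatorElement_one_left] at this
    rw [eq_inv_of_mul_eq_one_right this.symm]
    exact inv_mem (ha.2 c hc)⟩

theorem Ct.center_le_R (C : Ct T) (S : Subgroup H) (B : Set H) (hB : B ⊆ T) (h : center H ≤ T) :
    center H ≤ C.R S B hB :=
  fun z hz => ⟨h hz, fun b _ => by rw [comm_center hz]; exact one_mem _⟩

theorem Ct.norm (C : Ct T) {n a b : H} (hn : ∀ c ∈ T, n * c * n⁻¹ ∈ T) (ha : a ∈ T)
    (han : n⁻¹ * a * n * a⁻¹ ∈ center H) (hb : b ∈ T) (k : ℕ) :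
    (b * n) ^ k * (n ^ k)⁻¹ ∈ T ∧ ⁅a, (b * n) ^ k * (n ^ k)⁻¹⁆ = ⁅a, b⁆ ^ k := by
  induction k with
  | zero => simp
  | succ k ih =>
    rw [show (b * n) ^ (k + 1) * (n ^ (k + 1))⁻¹ = b * (n * ((b * n) ^ k * (n ^ k)⁻¹) * n⁻¹) by
      rw [pow_succ', pow_succ']; group]
    refine ⟨mul_mem hb (hn _ ih.1), ?_⟩
    rw [C.mul_right b ha (hn _ ih.1), pow_succ', ← ih.2]
    congr 1
    generalize (b * n) ^ k * (n ^ k)⁻¹ = c at ih
    calc ⁅a, n * c * n⁻¹⁆ = n * ⁅n⁻¹ * a * n * a⁻¹ * a, c⁆ * n⁻¹ := by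
          simp only [commutatorElement_def]; group
      _ = ⁅a, c⁆ := by
        rw [C.mul_left _ ha ih.1, comm_center han, mul_one, mem_center_iff.1 (C.com a ha c ih.1) n,
          mul_inv_cancel_right]

theorem Ct.exists_s (C0 : Ct T) {Q : Type*} [Group Q] [Finite Q] (f : H →* Q)
    (hker : f.ker = center H) {C : Subgroup Q} (hT : C.comap f ≤ T) (h4 : Nat.card C = 4) :
    ∃ (s : H) (s2 : s * s = 1), ∀ a ∈ C.comap f, ∀ b ∈ C.comap f, ⁅a, b⁆ ∈ S2 s s2 := by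
  by_cases h0 : ∀ a ∈ C.comap f, ∀ b ∈ C.comap f, ⁅a, b⁆ = 1
  · exact ⟨1, one_mul 1, fun a ha b hb => Or.inl (h0 a ha b hb)⟩
  push Not at h0
  obtain ⟨u, hu, v, hv, huv⟩ := h0
  have hZ : center H ≤ T := fun z hz => hT (by
    rw [mem_comap, show f z = 1 from hker.ge hz]; exact one_mem _)
  have gen : ∀ R : Subgroup H, center H ≤ R → u ∈ R → v ∈ R → C.comap f ≤ R := by
    intro R h1 h2 h3
    have hd : Nat.card ↥(R.map f ⊓ C) ∣ 4 := h4 ▸ card_dvd_of_le inf_le_right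
    have n1 : 1 ≠ f u := fun e => huv (comm_center (hker.le e.symm) v)
    have n2 : 1 ≠ f v := fun e => huv (by
      rw [← commutatorElement_inv, comm_center (hker.le e.symm) u, inv_one])
    have n3 : f u ≠ f v := fun e => huv (by
      have hz : u * v⁻¹ ∈ center H := hker.le (by
        rw [MonoidHom.mem_ker, map_mul, map_inv, e, mul_inv_cancel])
      rw [← inv_mul_cancel_right u v, C0.mul_left _ (hT hv) (hT hv), comm_center hz,
        commutatorElement_self, one_mul])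
    have h5 : 3 ≤ Nat.card ↥(R.map f ⊓ C) := by
      rw [← Set.ncard_eq_three.2 ⟨1, f u, f v, n1, n2, n3, rfl⟩, ← SetLike.coe_sort_coe,
        Nat.card_coe_set_eq]
      refine Set.ncard_le_ncard ?_
      rintro _ (rfl | rfl | rfl)
      · exact one_mem _
      · exact ⟨mem_map_of_mem f h2, hu⟩
      · exact ⟨mem_map_of_mem f h3, hv⟩
    have h6 : Nat.card ↥(R.map f ⊓ C) = 4 := by
      have := Nat.le_of_dvd (by norm_num) hd
      interval_cases Nat.card ↥(R.map f ⊓ C)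
      · exact absurd hd (by decide)
      · rfl
    have e := eq_of_le_of_card_ge (inf_le_right : R.map f ⊓ C ≤ C) (by rw [h4, h6])
    refine (comap_mono (e.ge.trans inf_le_left)).trans ?_
    rw [comap_map_eq, hker, sup_eq_left.2 h1]
  refine ⟨_, C0.sq (hT hu) (hT hv), fun a ha b hb => ?_⟩
  have sym : ∀ {c d : H}, ⁅c, d⁆ ∈ S2 _ (C0.sq (hT hu) (hT hv)) →
      ⁅d, c⁆ ∈ S2 _ (C0.sq (hT hu) (hT hv)) := fun {c d} h => by
    rw [← commutatorElement_inv c d]; exact inv_mem h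
  have step : ∀ d ∈ T, ⁅u, d⁆ ∈ S2 _ (C0.sq (hT hu) (hT hv)) →
      ⁅v, d⁆ ∈ S2 _ (C0.sq (hT hu) (hT hv)) → ∀ c ∈ C.comap f,
      ⁅c, d⁆ ∈ S2 _ (C0.sq (hT hu) (hT hv)) := fun d hd h1 h2 c hc =>
    (gen (C0.R _ {d} (Set.singleton_subset_iff.2 hd)) (C0.center_le_R _ _ _ hZ)
      ⟨hT hu, fun _ e => e ▸ h1⟩ ⟨hT hv, fun _ e => e ▸ h2⟩ hc).2 d rfl
  exact step b (hT hb)
    (sym (step u (hT hu) (Or.inl (commutatorElement_self u)) (sym (Or.inr rfl)) b hb))
    (sym (step v (hT hv) (Or.inr rfl) (Or.inl (commutatorElement_self v)) b hb)) a ha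

end L19

theorem l19 {H X : Type*} [Group H] [Finite H] [Group X] [IsSimpleGroup X] {π : H →* X} (h : Min π)
    (hH : commutator H = ⊤) (P : Subgroup H) [P.Normal] (hP : IsPGroup 2 P) {x n : H}
    (x19 : orderOf x = 19) (hx : x ∉ π.ker) (hn : n * x * n⁻¹ = x ^ 4) (n9 : n ^ 9 ∈ center H)
    (rank : ∀ E : Subgroup H, (∀ a ∈ E, ∀ b ∈ E, a * b = b * a) → (∀ a ∈ E, a * a = 1) →
      Nat.card E ≤ 2 ^ 15)
    (hA : ∀ t ∈ center H, t * t = 1 → t ≠ 1 → Nat.card P ≤ 2 ^ 35 ∧ ∀ E : Subgroup H,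
      (∀ a ∈ E, a * a = 1 ∨ a * a = t) → (∀ a ∈ E, ∀ b ∈ E, a * b = b * a ∨ a * b = b * a * t) →
        Nat.card E ≤ 2 ^ 15) : P ≤ center H := by
  have : Fact (Nat.Prime 2) := ⟨Nat.prime_two⟩
  have : Fact (Nat.Prime 3) := ⟨Nat.prime_three⟩
  have : Fact (Nat.Prime 19) := ⟨by norm_num⟩
  by_contra hne
  have hker : (QuotientGroup.mk' (center H)).ker = center H := QuotientGroup.ker_mk' _
  have hsurj := QuotientGroup.mk'_surjective (center H)
  have hZ : center (H ⧸ center H) = ⊥ := by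
    have : Group.IsPerfect H := ⟨hH⟩
    exact Group.IsPerfect.center_quotient_center_eq_bot H
  generalize QuotientGroup.mk' (center H) = f at hker hsurj
  have f1 : ∀ a, f a = 1 ↔ a ∈ center H := fun a => by rw [← MonoidHom.mem_ker, hker]
  have xo : orderOf (f x) = 19 := by
    refine orderOf_eq_prime (by rw [← map_pow, ← x19, pow_orderOf_eq_one, map_one]) fun e => ?_
    have h1 := mem_center_iff.1 ((f1 x).1 e) n
    rw [h1, mul_inv_cancel_right] at hn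
    have h2 := pow_eq_pow_iff_modEq.1 (show x ^ 1 = x ^ 4 by rwa [pow_one])
    rw [x19] at h2
    exact absurd h2 (by decide)
  have hnx : f n * f x * (f n)⁻¹ = f x ^ 4 := by rw [← map_pow, ← hn]; simp
  have hn9 : f n ^ 9 = 1 := by rw [← map_pow, f1]; exact n9
  have hxc : ∀ Y : Subgroup (H ⧸ center H), Y.Normal → Y ≠ ⊥ →
      ¬ Y ≤ centralizer (zpowers (f x) : Set (H ⧸ center H)) := by
    intro Y hY h1 hle
    have hx' : x ∈ (centralizer (Y : Set (H ⧸ center H))).comap f :=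
      (le_centralizer_iff.1 hle) (mem_zpowers _)
    rcases h.normal_cases ((centralizer (Y : Set (H ⧸ center H))).comap f) with e | e
    · exact hx (e hx')
    · refine h1 (eq_bot_iff.2 fun y hy => hZ ▸ mem_center_iff.2 fun g => ?_)
      obtain ⟨g, rfl⟩ := hsurj g
      have : g ∈ (centralizer (Y : Set (H ⧸ center H))).comap f := by rw [e]; trivial
      exact (this y hy).symm
  have hPn : (P.map f).Normal := Normal.map inferInstance f hsurj
  obtain ⟨W, hWP, hW1, hWc, hW2, hxW, hnW, hfix⟩ := L19.exists_W (P.map f) (hP.map f)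
    (fun e => hne (((Subgroup.map_eq_bot_iff _).1 e).trans hker.le)) xo hnx hxc
  have hWp : IsPGroup 2 W := (hP.map f).to_le hWP
  have hsub : ∀ R : Subgroup (H ⧸ center H), R ≤ W → f x ∈ normalizer (R : Set (H ⧸ center H)) →
      ∃ k, Nat.card R = 2 ^ (18 * k) := by
    intro R hR hxR
    obtain ⟨m, hm⟩ := (hWp.to_le hR).exists_card_eq
    have h1 := CL.Prim.card_modEq_card_inf_centralizer (p := 19) (A := zpowers (f x)) (E := R)
      (IsPGroup.of_card (n := 1) (by rw [Nat.card_zpowers, xo, pow_one])) (zpowers_le.2 hxR)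
    rw [eq_bot_iff.2 ((inf_le_inf_right _ hR).trans hfix.le), card_bot, hm] at h1
    obtain ⟨k, rfl⟩ := L19.dvd18 h1
    exact ⟨k, hm⟩
  obtain ⟨k, hk⟩ := hsub W le_rfl hxW
  have hk0 : k ≠ 0 := by
    rintro rfl
    exact hW1 (eq_bot_of_card_eq _ hk)
  have hbig : 2 ^ 18 ≤ Nat.card W := hk ▸ Nat.pow_le_pow_right two_pos (by omega)
  have C : L19.Ct (W.comap f) := ⟨fun a ha b hb => (f1 _).1 (by
      rw [map_commutatorElement, commutatorElement_eq_one_iff_mul_comm]; exact hWc _ ha _ hb),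
    fun a ha => (f1 _).1 (by rw [map_mul]; exact hW2 _ ha)⟩
  have hcj : ∀ g : H, f g ∈ normalizer (W : Set (H ⧸ center H)) → ∀ a ∈ W.comap f,
      g * a * g⁻¹ ∈ W.comap f := fun g hg a ha => by
    rw [mem_comap, map_mul, map_mul, map_inv]
    exact (mem_normalizer_iff.1 hg _).1 ha
  have hE : ∀ (t : H) (t2 : t * t = 1), (∀ a ∈ W.comap f, ∀ b ∈ W.comap f, ⁅a, b⁆ ∈ L19.S2 t t2) →
      ∃ E : Subgroup H, E ≤ W.comap f ∧ (∀ a ∈ E, a * a = 1 ∨ a * a = t) ∧ 2 ^ 18 ≤ Nat.card E := by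
    intro t t2 hc
    refine ⟨C.E _ hc, fun a ha => ha.1, fun a ha => ha.2, hbig.trans ?_⟩
    refine (card_le_of_le (K := (C.E _ hc).map f) fun w hw => ?_).trans (card_map_dvd _ _ |>
      Nat.le_of_dvd Nat.card_pos)
    obtain ⟨a, ha, rfl⟩ := L19.surj hxW hfix hw
    obtain ⟨a, rfl⟩ := hsurj a
    exact ⟨_, C.mem_E hc ha (hcj x hxW a ha), by simp⟩
  by_cases h0 : ∀ a ∈ W.comap f, ∀ b ∈ W.comap f, ⁅a, b⁆ = 1
  · obtain ⟨E, h1, h2, h3⟩ := hE 1 (one_mul 1) fun a ha b hb => Or.inl (h0 a ha b hb)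
    have := rank E (fun a ha b hb =>
      commutatorElement_eq_one_iff_mul_comm.1 (h0 a (h1 ha) b (h1 hb)))
      fun a ha => (h2 a ha).elim id id
    omega
  push Not at h0
  obtain ⟨a0, ha0, b0, hb0, ht1⟩ := h0
  obtain ⟨hPc, hA2⟩ := hA _ (C.com a0 ha0 b0 hb0) (C.sq ha0 hb0) ht1
  have hW18 : Nat.card W = 2 ^ 18 := by
    have h1 : Nat.card W ≤ 2 ^ 35 :=
      ((card_le_of_le hWP).trans (Nat.le_of_dvd Nat.card_pos (card_map_dvd _ _))).trans hPc
    rw [hk] at h1 ⊢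
    have := (Nat.pow_le_pow_iff_right (by norm_num)).1 h1
    rw [show k = 1 by omega]
  have hnot : ∀ (s : H) (s2 : s * s = 1),
      ¬ ∀ a ∈ W.comap f, ∀ b ∈ W.comap f, ⁅a, b⁆ ∈ L19.S2 s s2 := by
    intro s s2 hc
    have e : ⁅a0, b0⁆ = s := (hc a0 ha0 b0 hb0).resolve_left ht1
    obtain ⟨E, h1, h2, h3⟩ := hE s s2 hc
    have := hA2 E (e ▸ h2) fun a ha b hb => by
      rcases hc a (h1 ha) b (h1 hb) with h | h
      · exact Or.inl (commutatorElement_eq_one_iff_mul_comm.1 h)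
      · right
        rw [mem_center_iff.1 (C.com a0 ha0 b0 hb0), e, ← h, commutatorElement_def]
        group
    omega
  have hC4 := L19.card_fix xo hnx hn9 hWp hW18 hxW hnW hfix
  obtain ⟨s, s2, hs⟩ := C.exists_s f hker
    (C := W ⊓ centralizer (zpowers (f n) : Set (H ⧸ center H))) (comap_mono inf_le_left) hC4
  have hRle : (C.R (L19.S2 s s2) (W.comap f) subset_rfl).map f ≤ W :=
    map_le_iff_le_comap.2 fun a ha => ha.1
  obtain ⟨j, hj⟩ := hsub _ hRle (mem_normalizer_fintype (by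
    rintro _ ⟨a, ha, rfl⟩
    refine ⟨x * a * x⁻¹, ⟨hcj x hxW a ha.1, fun b hb => ?_⟩, by simp⟩
    have hb' : x⁻¹ * b * x⁻¹⁻¹ ∈ W.comap f := hcj x⁻¹ (by rw [map_inv]; exact inv_mem hxW) b hb
    have := C.conj x ha.1 hb'
    rw [show x * (x⁻¹ * b * x⁻¹⁻¹) * x⁻¹ = b by group] at this
    rw [this]
    exact ha.2 _ hb'))
  have hj1 : j = 0 ∨ j = 1 := by
    have h1 := card_le_of_le hRle
    rw [hj, hW18] at h1
    have := (Nat.pow_le_pow_iff_right (by norm_num)).1 h1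
    omega
  rcases hj1 with rfl | rfl
  · have h1 := eq_bot_of_card_eq _ hj
    have h2 : W ⊓ centralizer (zpowers (f n) : Set (H ⧸ center H)) = ⊥ := by
      refine eq_bot_iff.2 fun w hw => ?_
      obtain ⟨a, rfl⟩ := hsurj w
      refine h1.le (mem_map_of_mem f ⟨hw.1, fun b hb => ?_⟩)
      have han : f n * f a = f a * f n := hw.2 _ (mem_zpowers _)
      obtain ⟨h3, h4⟩ := C.norm (hcj n hnW) (a := a) hw.1 ((f1 _).1 (by
        rw [map_mul, map_mul, map_mul, map_inv, map_inv, mul_assoc _ (f a), ← han]; group)) hb 9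
      have h5 : ⁅a, b⁆ ^ 9 = ⁅a, b⁆ := by
        rw [show 9 = 2 * 4 + 1 from rfl, pow_succ, pow_mul, sq, C.sq hw.1 hb, one_pow, one_mul]
      rw [← h5, ← h4]
      refine hs a hw _ ⟨h3, ?_⟩
      rw [mem_comap] at h3
      show f _ ∈ centralizer _
      rw [map_mul, map_inv, map_pow, map_pow, hn9, inv_one, mul_one, map_mul] at h3 ⊢
      refine le_centralizer_iff.1 (zpowers_le.2 (mem_centralizer_iff.2 ?_)) (mem_zpowers _)
      rintro _ ⟨m, rfl⟩
      have c1 : Commute (f b) ((f b * f n) ^ 9) := hWc _ hb _ h3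
      have c2 : Commute (f b * f n) ((f b * f n) ^ 9) := Commute.self_pow _ _
      have c3 := c1.inv_left.mul_left c2
      rw [inv_mul_cancel_left] at c3
      exact (c3.zpow_right m).eq.symm
    rw [h2, card_bot] at hC4
    omega
  · have h1 := eq_of_le_of_card_ge hRle (by rw [hj, hW18])
    refine hnot s s2 fun a ha b hb => ?_
    have h2 : a ∈ ((C.R (L19.S2 s s2) (W.comap f) subset_rfl).map f).comap f := by rwa [h1]
    rw [comap_map_eq, hker, sup_eq_left.2 (C.center_le_R _ _ _ fun z hz => by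
      rw [mem_comap, (f1 z).2 hz]; exact one_mem _)] at h2
    exact h2.2 b hb

/-- lifting `19:9` through a kernel `P ⊔ O` (Schur–Zassenhaus in the preimage of `⟨a, b⟩`: a complement `C` to
`P`; in `C`, a central extension of `⟨a, b⟩` by `C ⊓ ker ≤ center`, take the 19-part `x` of a lift of `a` and any lift
`n` of `b`; `n x n⁻¹` and `x^4` differ by a central element of order prime to 19) -/
theorem lift19 {H X : Type*} [Group H] [Finite H] [Group X] {π : H →* X} (hs : Function.Surjective π)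
    (P O : Subgroup H) [P.Normal] (hP : IsPGroup 2 P) (hO : O ≤ center H) (ho : Odd (Nat.card O))
    (hk : P ⊔ O = π.ker) (h19 : ¬ 19 ∣ Nat.card O) {a b : X} (a19 : orderOf a = 19)
    (hb : b * a * b⁻¹ = a ^ 4) (b9 : b ^ 9 = 1) :
    ∃ x n : H, orderOf x = 19 ∧ π x = a ∧ n * x * n⁻¹ = x ^ 4 ∧ n ^ 9 ∈ center H := by
  have : Fact (Nat.Prime 2) := ⟨Nat.prime_two⟩
  have : Fact (Nat.Prime 19) := ⟨by norm_num⟩
  obtain ⟨m, hm⟩ := hP.exists_card_eq
  have hdec : ∀ y ∈ π.ker, ∃ p ∈ P, ∃ o ∈ O, Commute p o ∧ p * o = y := fun y hy => by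
    obtain ⟨p, hp, o, ho, e⟩ := mem_sup_of_normal_left.1 (hk ▸ hy)
    exact ⟨p, hp, o, ho, mem_center_iff.1 (hO ho) p, e⟩
  have hc19 : (Nat.card π.ker).Coprime 19 := by
    refine ((Nat.Prime.coprime_iff_not_dvd (by norm_num)).2 fun hd => ?_).symm
    obtain ⟨y, hy⟩ := exists_prime_orderOf_dvd_card' 19 hd
    obtain ⟨p, hp, o, ho, hc, e⟩ := hdec y y.2
    have h1 : orderOf (y : H) ∣ Nat.card P * Nat.card O := by
      rw [← e]
      exact hc.orderOf_mul_dvd_mul_orderOf.trans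
        (mul_dvd_mul (P.orderOf_dvd_natCard hp) (O.orderOf_dvd_natCard ho))
    rw [Subgroup.orderOf_coe, hy, hm] at h1
    rcases (Nat.Prime.dvd_mul (by norm_num)).1 h1 with h | h
    · exact absurd (Nat.Prime.dvd_of_dvd_pow (by norm_num) h) (by norm_num)
    · exact h19 h
  obtain ⟨x, xo, hx⟩ : ∃ x : H, orderOf x = 19 ∧ π x = a := by
    obtain ⟨x0, rfl⟩ := hs a
    obtain ⟨k, k1, k2⟩ := Nat.chineseRemainder hc19 0 1
    have e : π (x0 ^ k) = π x0 := by
      rw [map_pow]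
      nth_rewrite 2 [← pow_one (π x0)]
      exact pow_eq_pow_iff_modEq.2 (a19 ▸ k2)
    refine ⟨x0 ^ k, orderOf_eq_prime ?_ fun h => ?_, e⟩
    · rw [← pow_mul, mul_comm, pow_mul, ← orderOf_dvd_iff_pow_eq_one]
      refine (π.ker.orderOf_dvd_natCard ?_).trans (Nat.modEq_zero_iff_dvd.1 k1)
      rw [MonoidHom.mem_ker, map_pow, ← a19, pow_orderOf_eq_one]
    · rw [h, map_one] at e
      rw [← e, orderOf_one] at a19
      omega
  obtain ⟨n0, rfl⟩ := hs b
  have hnK : ∀ A : Subgroup H, A ≤ normalizer (π.ker : Set H) := fun A => by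
    rw [normalizer_eq_top]; exact le_top
  obtain ⟨k, hk', hle⟩ := CL.coprime_le_conj_of_le_sup (zpowers (n0 * x * n0⁻¹)) π.ker (zpowers x)
    (hnK _) (zpowers_le.2 (by
      rw [← inv_mul_cancel_right (n0 * x * n0⁻¹) (x ^ 4)]
      refine mul_mem_sup ?_ (npow_mem_zpowers x 4)
      rw [MonoidHom.mem_ker]
      simp [hx, hb]))
    (by
      rw [Nat.card_zpowers, show orderOf (n0 * x * n0⁻¹) = orderOf x from
        (MulAut.conj n0).orderOf_eq x, xo]
      exact hc19.symm)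
    (Or.inl inferInstance)
  obtain ⟨n1, hn1, e1⟩ : ∃ n1 : H, π n1 = π n0 ∧ n1 * x * n1⁻¹ = x ^ 4 := by
    have k1 : π k = 1 := hk'
    refine ⟨k⁻¹ * n0, by simp [k1], ?_⟩
    have h1 := mem_pointwise_smul_iff_inv_smul_mem.1 (hle (mem_zpowers _))
    have h2 : k⁻¹ * n0 * x * (k⁻¹ * n0)⁻¹ ∈ zpowers x := by simpa [mul_assoc] using h1
    have h3 : k⁻¹ * n0 * x * (k⁻¹ * n0)⁻¹ * (x ^ 4)⁻¹ ∈ π.ker := by
      rw [MonoidHom.mem_ker]
      simp [hx, hb, k1]
    have h4 := (zpowers x).orderOf_dvd_natCard (mul_mem h2 (inv_mem (npow_mem_zpowers x 4)))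
    rw [Nat.card_zpowers, xo] at h4
    exact mul_inv_eq_one.1 (orderOf_eq_one_iff.1
      (Nat.eq_one_of_dvd_coprimes hc19 (π.ker.orderOf_dvd_natCard h3) h4))
  obtain ⟨s, r, hr, e⟩ := Nat.exists_eq_two_pow_mul_odd (orderOf_pos n1).ne'
  refine ⟨x, n1 ^ 64 ^ s, xo, hx, ?_, ?_⟩
  · rw [L19.conj_pow_pow e1, pow_eq_pow_iff_modEq, xo]
    have h1 : 64 ^ s ≡ 1 [MOD 9] := by simpa using (show 64 ≡ 1 [MOD 9] by decide).pow s
    rw [← Nat.div_add_mod (64 ^ s) 9, h1, pow_add, pow_mul]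
    simpa using ((show 4 ^ 9 ≡ 1 [MOD 19] by decide).pow (64 ^ s / 9)).mul_right 4
  · obtain ⟨p, hp, o, ho', hc, e2⟩ := hdec ((n1 ^ 64 ^ s) ^ 9) (by
      rw [MonoidHom.mem_ker, ← pow_mul, mul_comm, pow_mul, map_pow, map_pow, hn1, b9, one_pow])
    have h1 : ((n1 ^ 64 ^ s) ^ 9) ^ r = 1 := by
      rw [← pow_mul, ← pow_mul, ← orderOf_dvd_iff_pow_eq_one, e]
      exact mul_dvd_mul (pow_dvd_pow_of_dvd (by norm_num) s) (dvd_mul_left r 9)
    have h2 : p ^ (r * Nat.card O) = 1 := by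
      have h3 : (p * o) ^ (r * Nat.card O) = 1 := by rw [e2, pow_mul, h1, one_pow]
      rwa [hc.mul_pow, mul_comm r, pow_mul o,
        orderOf_dvd_iff_pow_eq_one.1 (O.orderOf_dvd_natCard ho'), one_pow, mul_one, mul_comm] at h3
    have h4 : p = 1 := orderOf_eq_one_iff.1 (Nat.eq_one_of_dvd_coprimes
      (L19.cop hP (hr.mul ho)) (P.orderOf_dvd_natCard hp) (orderOf_dvd_of_pow_eq_one h2))
    rw [← e2, h4, one_mul]
    exact hO ho'

end CL.PA
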