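import Mathlib
import Cfsg.Agent.SPOR.ON45

/-! A configuration in the O'Nan group. -/

set_option autoImplicit false
set_option Elab.async false
set_option maxRecDepth 100000
set_option exponentiation.threshold 400000

namespace CL.PA.OnD

open CL.CE CL.CG CL.Net Subgroup Cfsg

/-- the elements acting nontrivially on a conjugate of `y` under the centraliser of `w` -/
def Pw {K : Type*} [Group K] (w y e : K) : Prop :=
  ∃ (d : K) (r : ℕ), d * w = w * d ∧ (r = 2 ∨ r = 4) ∧ e * (d * y * d⁻¹) * e⁻¹ = (d * y * d⁻¹) ^ r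

section grp

variable {K : Type*} [Group K] {w y e : K}

theorem Pw.sq (y7 : y ^ 7 = 1) (h : Pw w y e) : Pw w y (e * e) := by
  obtain ⟨d, r, h1, h2, h3⟩ := h
  have h4 : e * e * (d * y * d⁻¹) * (e * e)⁻¹ = (d * y * d⁻¹) ^ (r * r) := by
    rw [pow_mul, ← h3, conj_pow, ← h3]; group
  rcases h2 with rfl | rfl
  · exact ⟨d, 4, h1, Or.inr rfl, h4⟩
  · refine ⟨d, 2, h1, Or.inl rfl, h4.trans ?_⟩
    rw [pow_eq_pow_mod (n := 7) _ (by rw [conj_pow, y7]; group)]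

theorem Pw.conj (h : Pw w y e) {c : K} (hc : c * w = w * c) : Pw w y (c * e * c⁻¹) := by
  obtain ⟨d, r, h1, h2, h3⟩ := h
  refine ⟨c * d, r, by rw [mul_assoc, h1, ← mul_assoc, hc, mul_assoc], h2, ?_⟩
  calc _ = c * (e * (d * y * d⁻¹) * e⁻¹) * c⁻¹ := by group
    _ = _ := by rw [h3, ← conj_pow]; group

theorem Pw.ne_one (y7 : y ^ 7 = 1) (y1 : y ≠ 1) (h : Pw w y e) : e ≠ 1 := by
  rintro rfl
  obtain ⟨d, r, -, h2, h3⟩ := h
  rw [conj_pow, one_mul, inv_one, mul_one, mul_left_inj, mul_right_inj] at h3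
  have h4 : y ^ (r - 1) = 1 := by
    rw [← mul_left_inj y, ← pow_succ, one_mul, Nat.sub_add_cancel (by omega), ← h3]
  have := pow_gcd_eq_one.2 ⟨h4, y7⟩
  rcases h2 with rfl | rfl <;> exact y1 (by simpa using this)

theorem exists_E [Finite K] {t s j : K} (y7 : y ^ 7 = 1) (y1 : y ≠ 1) (t3 : t ^ 3 = 1) (s3 : s ^ 3 = 1)
    (ts : Commute t s) (tw : Commute t w) (sw : Commute s w) (tj : Commute t j) (sj : Commute s j)
    (p1 : Pw w y t) (p2 : Pw w y s) (p3 : Pw w y (t * s)) (p4 : Pw w y (t * s ^ 2)) :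
    ∃ E : Subgroup K, 9 ∣ Nat.card E ∧ (∀ e ∈ E, e * w = w * e ∧ e * j = j * e ∧ e ^ 3 = 1) ∧
      ∀ e ∈ E, e ≠ 1 → Pw w y e := by
  have : Fact (Nat.Prime 3) := ⟨Nat.prime_three⟩
  have hm : ∀ a b c d : ℕ, t ^ a * s ^ b * (t ^ c * s ^ d) = t ^ (a + c) * s ^ (b + d) :=
    fun a b c d => by
      rw [pow_add, pow_add, mul_assoc, ← mul_assoc (s ^ b), ← (ts.pow_pow c b).eq]; group
  let E : Subgroup K :=
    { carrier := {e | ∃ a b : ℕ, e = t ^ a * s ^ b}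
      one_mem' := ⟨0, 0, by simp⟩
      mul_mem' := by rintro _ _ ⟨a, b, rfl⟩ ⟨c, d, rfl⟩; exact ⟨_, _, hm a b c d⟩
      inv_mem' := by
        rintro _ ⟨a, b, rfl⟩
        refine ⟨2 * a, 2 * b, inv_eq_of_mul_eq_one_right ?_⟩
        rw [hm, show a + 2 * a = 3 * a by ring, show b + 2 * b = 3 * b by ring, pow_mul, pow_mul,
          t3, s3]
        simp }
  have h1 : ∀ e ∈ E, e * w = w * e ∧ e * j = j * e ∧ e ^ 3 = 1 := by
    rintro _ ⟨a, b, rfl⟩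
    refine ⟨((tw.pow_left a).mul_left (sw.pow_left b)).eq, ((tj.pow_left a).mul_left (sj.pow_left b)).eq, ?_⟩
    rw [(ts.pow_pow a b).mul_pow, ← pow_mul, ← pow_mul, mul_comm a, mul_comm b, pow_mul, pow_mul, t3, s3]
    simp
  refine ⟨E, ?_, h1, ?_⟩
  · obtain ⟨n, hn⟩ := IsPGroup.exists_card_eq (p := 3) (G := E) fun e =>
      ⟨1, Subtype.ext (h1 e e.2).2.2⟩
    rw [hn]
    refine pow_dvd_pow 3 (show 2 ≤ n from by_contra fun h => ?_)
    have ho : orderOf t = 3 := orderOf_eq_prime t3 (p1.ne_one y7 y1)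
    have h2 : zpowers t = E := eq_of_le_of_card_ge (zpowers_le.2 ⟨1, 0, by simp⟩) (by
      rw [Nat.card_zpowers, ho, hn]
      exact (Nat.pow_le_pow_right (by norm_num) (by omega : n ≤ 1)).trans (by norm_num))
    have h3 : s ∈ zpowers t := h2 ▸ ⟨0, 1, by simp⟩
    obtain ⟨m, rfl⟩ := mem_powers_iff_mem_zpowers.2 h3
    simp only [pow_eq_pow_mod m t3] at p2 p3 p4
    have := Nat.mod_lt m (show 0 < 3 by norm_num)
    generalize m % 3 = k at *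
    interval_cases k
    · exact p2.ne_one y7 y1 (pow_zero t)
    · exact p4.ne_one y7 y1 (by rw [← t3]; group)
    · exact p3.ne_one y7 y1 (by rw [← t3]; group)
  · rintro _ ⟨a, b, rfl⟩ h
    rw [pow_eq_pow_mod a t3, pow_eq_pow_mod b s3] at h ⊢
    have ha := Nat.mod_lt a (show 0 < 3 by norm_num)
    have hb := Nat.mod_lt b (show 0 < 3 by norm_num)
    generalize a % 3 = a at *
    generalize b % 3 = b at *
    have q3 := p3.sq y7
    have q4 := p4.sq y7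
    have e3 := hm 1 1 1 1
    have e4 := hm 1 2 1 2
    rw [pow_eq_pow_mod (2 + 2) s3] at e4
    simp only [pow_one] at e3 e4
    rw [e3] at q3
    rw [e4] at q4
    interval_cases a <;> interval_cases b
    · simp at h
    · simpa using p2
    · simpa [pow_two] using p2.sq y7
    · simpa using p1
    · simpa using p3
    · simpa using p4
    · simpa [pow_two] using p1.sq y7
    · exact q4
    · exact q3

end grp

theorem eqs {R : List (List ℕ × List ℕ)}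
    (h : relsB ON45.mul ON45.one ON45.L ON45.Z (R.map fun p => p.1 ++ invw ON.iv p.2) = true) :
    ∀ p ∈ R, ev ON.g p.1 = ev ON.g p.2 := fun p hp => by
  obtain ⟨ψ, hi, e⟩ := ON45.exists_proj
  have h1 := ON45.π_eq_one _ (ON45.C.code_ev_mem ON45.mem_L h _ (List.mem_map_of_mem hp))
  rw [map_ev, ← funext e, ← map_ev, map_eq_one_iff ψ hi, ev_append,
    ev_invw fun a _ => ON.pres.inv a] at h1
  exact mul_inv_eq_one.1 h1

def wy : List ℕ := [6, 3, 2, 1]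
def wj : List ℕ := [1, 7, 1, 2, 6, 3, 2, 1, 6, 3, 1]
def wt : List ℕ := [3, 1, 2, 3, 1, 6, 1, 2, 3, 1, 2, 1, 0]
def ws : List ℕ := [2, 7, 1, 6, 3, 2, 6, 3, 1, 7, 2, 1]
def wc1 : List ℕ := [7, 3, 1, 0]
def wc2 : List ℕ := [2, 7, 2, 1]
def wc3 : List ℕ := [6, 3, 1, 2, 7, 2]
def wg : List ℕ := [4, 3, 2, 3, 6, 4]
def wr : List ℕ := [3, 4, 1, 7, 1, 2, 3, 4, 6]
noncomputable def wu : List ℕ := wr ++ [2, 3, 1, 2, 3, 4, 5, 0, 1, 2, 3, 4] ++ invw ON.iv wr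
noncomputable def wv : List ℕ :=
  wr ++ [3, 4, 2, 3, 1, 2, 3, 0, 1, 2, 3, 4, 5, 3, 4, 2, 3, 0, 1, 2, 1, 0] ++ invw ON.iv wr
noncomputable def wx : List ℕ := [5] ++ (wg ++ [5] ++ invw ON.iv wg)

noncomputable def R1 : List (List ℕ × List ℕ) :=
  [([5] ++ [5], []), (wpow wx 8, []), (wpow wy 7, []), (wy ++ [5], [5] ++ wy), (wj ++ wj, []),
   (wj ++ [5], [5] ++ wj), (wj ++ wy, wpow wy 6 ++ wj), (wc1 ++ [5], [5] ++ wc1),
   (wc2 ++ [5], [5] ++ wc2), (wc3 ++ [5], [5] ++ wc3)]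
def R2 : List (List ℕ × List ℕ) :=
  [(wpow wt 3, []), (wpow ws 3, []), (wt ++ ws, ws ++ wt), (wt ++ [5], [5] ++ wt),
   (ws ++ [5], [5] ++ ws), (wt ++ wj, wj ++ wt), (ws ++ wj, wj ++ ws)]
def R3 : List (List ℕ × List ℕ) :=
  [(wt ++ wy, wpow wy 2 ++ wt), (wc1 ++ wt, ws ++ wc1), (wc2 ++ (wt ++ wt), wt ++ ws ++ wc2),
   (wc3 ++ (wt ++ wt), wt ++ wpow ws 2 ++ wc3)]
noncomputable def R4 : List (List ℕ × List ℕ) :=
  [(wu ++ wy, wy ++ wu), (wv ++ wy, wy ++ wv), (wu ++ wv, wy ++ (wv ++ wu))]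

theorem r1 : ∀ p ∈ R1, ev ON.g p.1 = ev ON.g p.2 := eqs (by decide +kernel)
theorem r2 : ∀ p ∈ R2, ev ON.g p.1 = ev ON.g p.2 := eqs (by decide +kernel)
theorem r3 : ∀ p ∈ R3, ev ON.g p.1 = ev ON.g p.2 := eqs (by decide +kernel)
theorem r4 : ∀ p ∈ R4, ev ON.g p.1 = ev ON.g p.2 := eqs (by decide +kernel)
theorem n1 : ev ON.g wy ≠ 1 := ON.lift.ne_one ON.valid0 0 (by decide +kernel)
theorem n2 : ev ON.g (wpow wx 4) ≠ 1 := ON.lift.ne_one ON.valid0 1 (by decide +kernel)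

theorem data : ∃ (w g y a b j : Spor.ON) (E : Subgroup Spor.ON), w * w = 1 ∧
    orderOf (w * (g * w * g⁻¹)) = 8 ∧ y ^ 7 = 1 ∧ y ≠ 1 ∧ y * w = w * y ∧ a * y = y * a ∧
    b * y = y * b ∧ a * b * a⁻¹ * b⁻¹ = y ∧ j * j = 1 ∧ j * w = w * j ∧ j * y * j⁻¹ = y ^ 6 ∧
    9 ∣ Nat.card E ∧ (∀ e ∈ E, e * w = w * e ∧ e * j = j * e ∧ e ^ 3 = 1) ∧
    ∀ e ∈ E, e ≠ 1 → Pw w y e := by
  have h1 := r1
  have h2 := r2
  have h3 := r3
  have h4 := r4
  have h5 := n2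
  simp only [R1, R2, R3, R4, List.forall_mem_cons, ev_append, ev_wpow, ev_nil, List.not_mem_nil,
    false_imp_iff, implies_true, and_true] at h1 h2 h3 h4 h5
  obtain ⟨a1, a2, a3, a4, a5, a6, a7, a8, a9, a10⟩ := h1
  obtain ⟨b1, b2, b3, b4, b5, b6, b7⟩ := h2
  obtain ⟨c1, c2, c3, c4⟩ := h3
  obtain ⟨d1, d2, d3⟩ := h4
  have p1 : Pw (ev ON.g [5]) (ev ON.g wy) (ev ON.g wt) :=
    ⟨1, 2, by simp, Or.inl rfl, by simpa [mul_inv_eq_iff_eq_mul] using c1⟩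
  obtain ⟨E, hE⟩ := exists_E a3 n1 b1 b2 b3 b4 b5 b6 b7 p1
    (mul_inv_eq_iff_eq_mul.2 c2 ▸ p1.conj a8) (mul_inv_eq_iff_eq_mul.2 c3 ▸ (p1.sq a3).conj a9)
    (mul_inv_eq_iff_eq_mul.2 c4 ▸ (p1.sq a3).conj a10)
  refine ⟨_, ev ON.g wg, _, _, _, _, E, a1, ?_, a3, n1, a4, d1, d2, by rw [d3]; group, a5, a6,
    mul_inv_eq_iff_eq_mul.2 a7, hE⟩
  rw [wx, ev_append, ev_append, ev_append, ev_invw fun a _ => ON.pres.inv a] at a2 h5
  exact orderOf_eq_prime_pow (p := 2) (n := 2) h5 a2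

end CL.PA.OnD
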