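import Mathlib
import Cfsg.Agent.SPOR.PA.Def
import Cfsg.Agent.SPOR.E8O
import Cfsg.Agent.SPOR.Cent7

/-! Elements of order `7` and `13` of the automorphism group of the Leech lattice. -/

set_option autoImplicit false

namespace CL.PA

open Cfsg CL CL.Leech CL.MT CL.Co1T Subgroup MulAction

/-- `k` fixes no nonzero lattice vector -/
def Fpf (k : Co0) : Prop := ∀ v : leechLattice, k • v = v → v = 0

theorem Fpf.conj {k : Co0} (h : Fpf k) (g : Co0) : Fpf (g * k * g⁻¹) := fun v hv => by
  have := h (g⁻¹ • v) (by rw [← mul_smul, ← smul_left_cancel_iff g, ← mul_smul, ← mul_assoc,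
    hv, smul_inv_smul])
  rw [← smul_inv_smul g v, this, smul_zero]

theorem fix_of_neg {k : Co0} {n : ℕ} (hn : Odd n) (h1 : k ^ n = 1) {v : leechLattice}
    (h : k • v = -v) : v = 0 := by
  have h2 : ∀ m : ℕ, k ^ (2 * m + 1) • v = -v := fun m => by
    induction m with
    | zero => simpa using h
    | succ m ih => rw [show 2 * (m + 1) + 1 = 2 * m + 1 + 1 + 1 by ring, pow_succ', pow_succ',
        mul_smul, mul_smul, ih, smul_neg, h, neg_neg, h]
  obtain ⟨m, rfl⟩ := hn
  have h3 := h2 m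
  rw [h1, one_smul] at h3
  refine Subtype.ext (funext fun i => ?_)
  have := congrFun (congrArg Subtype.val h3) i
  simp only [AddSubgroup.coe_neg, Pi.neg_apply] at this
  show v.1 i = 0
  omega

/-- an element of odd order fixing a nonzero class fixes a short vector or a frame -/
theorem short_of_cong {k : Co0} {n : ℕ} (hn : Odd n) (h1 : k ^ n = 1) {v : leechLattice}
    (h : Cong (k • v) v) (h0 : ¬ Cong v 0) : ∃ u : leechLattice,
      ((sqNorm u.1 = 32 ∨ sqNorm u.1 = 48) ∧ k • u = u) ∨ (sqNorm u.1 = 64 ∧ Cong (k • u) u) := by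
  obtain ⟨u, hu, e⟩ := exists_short' v
  have h2 : Cong (k • u) u := ((hu.symm.smul k).trans h).trans hu
  refine ⟨u, ?_⟩
  rcases e with rfl | e
  · exact absurd hu h0
  rw [← or_assoc] at e
  refine e.imp (fun e => ⟨e, ?_⟩) fun e => ⟨e, h2⟩
  rcases h2.short (by rw [sqNorm_smul]; omega) (by omega) with a | a | a
  · exact a
  · rw [fix_of_neg hn h1 a, smul_zero]
  · omega

theorem exists_not_cong {k : Co0} {v : leechLattice} (h : k • v = v) (h0 : v ≠ 0) :
    ∃ u : leechLattice, k • u = u ∧ ¬ Cong u 0 := by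
  induction hn : (sqNorm v.1).toNat using Nat.strong_induction_on generalizing v with
  | _ n ih =>
    by_cases hc : Cong v 0
    · obtain ⟨u, hu⟩ := hc
      rw [sub_zero] at hu
      subst hu
      have h1 : u ≠ 0 := by rintro rfl; exact h0 (smul_zero _)
      have h2 : sqNorm (2 • u).1 = 4 * sqNorm u.1 := by
        simp only [sqNorm, AddSubgroup.coe_nsmul, Pi.smul_apply, nsmul_eq_mul, Finset.mul_sum]
        exact Finset.sum_congr rfl fun i _ => by push_cast; ring
      have h3 := min_norm u.2 fun e => h1 (Subtype.ext e)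
      refine ih _ (by omega) (v := u) ?_ h1 rfl
      rw [smul_nsmul] at h
      refine Subtype.ext (funext fun i => ?_)
      have := congrFun (congrArg Subtype.val h) i
      simp only [AddSubgroup.coe_nsmul, Pi.smul_apply, nsmul_eq_mul] at this
      push_cast at this
      omega
    · exact ⟨v, h, hc⟩

theorem eq_one_of_card {H : Type*} [Group H] {K : Subgroup H} {k : H} {p : ℕ} (hk : k ∈ K)
    (h1 : k ^ p = 1) (h2 : Nat.Coprime (Nat.card K) p) : k = 1 := by
  have := pow_gcd_eq_one.2 ⟨congrArg Subtype.val (pow_card_eq_one' (x := (⟨k, hk⟩ : K))), h1⟩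
  rwa [h2, pow_one] at this

theorem card_St {v : leechLattice} (hv : sqNorm v.1 = 64) : Nat.card (St v) = 4096 * 244823040 := by
  obtain ⟨k, hk⟩ := exists_smul_cong (sqNorm_e8 none) hv
  rw [← St_congr hk, St_smul, card_map_of_injective (MulAut.conj k).injective, St_e8, card_NN]

/-- elements of order `13` fix no nonzero class -/
theorem fix13 {k : Co0} (h1 : k ^ 13 = 1) {v : leechLattice} (h : Cong (k • v) v)
    (h0 : ¬ Cong v 0) : k = 1 := by
  obtain ⟨u, ⟨e | e, a⟩ | ⟨e, a⟩⟩ := short_of_cong (by decide) h1 h h0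
  · exact eq_one_of_card (mem_stabilizer_iff.2 a) h1 (by rw [card_stab_32 e]; norm_num)
  · exact eq_one_of_card (mem_stabilizer_iff.2 a) h1 (by rw [card_stab_48 e]; norm_num)
  · exact eq_one_of_card (mem_St.2 a) h1 (by rw [card_St e]; norm_num)

theorem card_CC : Nat.card E8C.CC = 512 * 174182400 := by
  rw [← E8C.f1.ker.card_mul_index, index_ker, MonoidHom.range_eq_top.2 E8C.f1_surj, card_top,
    FiA.om8.2.1, E8C.ker_f1, E8C.range_ρ1.2]

/-- elements of order `13` commute with no involution but `-1` -/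
theorem comm13 {k u : Co0} (h1 : k ^ 13 = 1) (h2 : u * u = 1) (h : k * u = u * k) :
    k = 1 ∨ u ∈ center Co0 := by
  have key : ∀ (K : Subgroup C1) (g : C1), g * pr k * g⁻¹ ∈ K → Nat.Coprime (Nat.card K) 13 →
      k = 1 := fun K g a b => by
    have := eq_one_of_card a (p := 13) (by rw [conj_pow, ← map_pow, h1]; simp) b
    rcases pr_eq_one.1 (conj_eq_one_iff.1 this) with e | e
    · exact e
    · rw [e, pow_odd_of_sq neg1_mul_self (by decide)] at h1
      exact absurd h1 neg1_ne_one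
  have hc : ∀ g : C1, g * pr k * g⁻¹ * (g * pr u * g⁻¹) = g * pr u * g⁻¹ * (g * pr k * g⁻¹) :=
    fun g => by rw [conj_mul, conj_mul, ← map_mul, h, map_mul]
  rcases cases_of_sq h2 with e | e | e
  · exact Or.inr (Leech.mem_center_iff.2 (pr_eq_one.1 e))
  · obtain ⟨g, hg⟩ := e.exists_conj E8C.oct_t.ca
    exact Or.inl (key E8C.CC g (mem_centralizer_singleton_iff.2 (hg ▸ hc g))
      (by rw [card_CC]; norm_num))
  · obtain ⟨g, hg⟩ := e.exists_conj dod_dD.cc
    exact Or.inl (key N0 g (dod_dD.cent (hg ▸ hc g)) (by rw [card_N0]; norm_num))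

theorem exists_fix_s0 : ∃ i, C7.s0.1 i = i :=
  Equiv.Perm.exists_fixed_point_of_prime (p := 7) (n := 1) (hp := ⟨by norm_num⟩)
    (by rw [Golay.card_pt]; norm_num) (congrArg Subtype.val C7.s0_pow)

theorem exists64_of {k : Co0} (h7 : orderOf k = 7) {u u0 : leechLattice} {g : Co0} {i : GolayPt}
    (hu : k • u = u) (hi : C7.s0.1 i = i) (h0 : permHom C7.s0 • u0 = u0) (hg : g • u0 = u)
    (hc : (Nat.card (stabilizer Co0 u)).factorization 7 = 1) :
    ∃ μ : leechLattice, sqNorm μ.1 = 64 ∧ Cong (k • μ) μ := by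
  have hs : g * permHom C7.s0 * g⁻¹ ∈ stabilizer Co0 u := by
    rw [mem_stabilizer_iff, ← hg, mul_smul, inv_smul_smul, mul_smul, h0]
  obtain ⟨τ, j, e⟩ := exists_conj_pow (M := stabilizer Co0 u) (by norm_num) hc (x := ⟨k, hu⟩)
    (y := ⟨_, hs⟩) (by rw [← orderOf_coe, h7]) (by
      rw [← orderOf_coe]
      exact ((MulAut.conj g).orderOf_eq _).trans C7.orderOf_σ)
  have e1 : (τ : Co0) * k * (τ : Co0)⁻¹ = (g * permHom C7.s0 * g⁻¹) ^ j := congrArg Subtype.val e
  have e2 : (g * permHom C7.s0 * g⁻¹) ^ j ∈ stabilizer Co0 (g • e8 i) := zpow_mem (by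
    rw [mem_stabilizer_iff, mul_smul, inv_smul_smul, mul_smul, permHom_e8, hi]) j
  refine ⟨(τ : Co0)⁻¹ • g • e8 i, by rw [sqNorm_smul, sqNorm_smul, sqNorm_e8], ?_⟩
  rw [← e1, mem_stabilizer_iff, mul_smul, mul_smul, smul_eq_iff_eq_inv_smul] at e2
  rw [e2]
  exact Cong.refl _

/-- an element of order `7` with a fixed vector fixes a frame -/
theorem exists64 {k : Co0} (h7 : orderOf k = 7) (h : ¬ Fpf k) :
    ∃ μ : leechLattice, sqNorm μ.1 = 64 ∧ Cong (k • μ) μ := by
  unfold Fpf at h
  push Not at h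
  obtain ⟨v, h1, h2⟩ := h
  obtain ⟨v, h1, h2⟩ := exists_not_cong h1 h2
  obtain ⟨i, hi⟩ := exists_fix_s0
  have h3 : permHom C7.s0 • (⟨odd3 i, odd3_mem i⟩ : leechLattice) = ⟨odd3 i, odd3_mem i⟩ :=
    Subtype.ext (funext fun j => by
      rw [permHom_apply]
      simp only [odd3, Equiv.symm_apply_eq, hi])
  obtain ⟨u, ⟨e | e, a⟩ | e⟩ := short_of_cong (n := 7) (by decide) (h7 ▸ pow_orderOf_eq_one k)
    (h1.symm ▸ Cong.refl v) h2
  · obtain ⟨g, hg⟩ := min_trans (x := ⟨odd3 i, odd3_mem i⟩) (sqNorm_odd3 i) e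
    exact exists64_of h7 a hi h3 hg (by rw [card_stab_32 e]; decide +kernel)
  · obtain ⟨g, hg⟩ := trans_48 (u := ⟨odd3 i, odd3_mem i⟩ + e8 i) (by
      clear h3 hi; revert i; decide +kernel) e
    exact exists64_of h7 a hi (by rw [smul_add, h3, permHom_e8, hi]) hg
      (by rw [card_stab_48 e]; decide +kernel)
  · exact ⟨u, e⟩

/-- eight is invertible -/
noncomputable local instance inv8' : Invertible (8 : ℚ) := Co1T.inv8

theorem castV_sum (s : Finset ℕ) (f : ℕ → leechLattice) :
    castV ℚ (∑ i ∈ s, f i) = ∑ i ∈ s, castV ℚ (f i) := by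
  funext j; simp [castV]

/-- an element acting nontrivially on a fixed point free element of order `7` has trace `0` -/
theorem Fpf.tr_eq {y k : Co0} (h : Fpf y) (h7 : y ^ 7 = 1) {r : ℕ} (hr : r = 2 ∨ r = 4 ∨ r = 6)
    (e : k * y * k⁻¹ = y ^ r) : tr k = 0 := by
  have h1 : ∑ i ∈ Finset.range 7, rhoR ℚ (y ^ i) = 0 := lin_ext_e8 fun j => by
    obtain ⟨w, hw⟩ : ∃ w, w = ∑ m ∈ Finset.range 7, y ^ m • e8 j := ⟨_, rfl⟩
    have : y • w = w := by
      rw [hw, Finset.smul_sum]
      simp only [← mul_smul, ← pow_succ']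
      have := Finset.sum_range_succ' (fun m => y ^ m • e8 j) 7
      rw [Finset.sum_range_succ, h7, pow_zero] at this
      exact (add_right_cancel this).symm
    rw [LinearMap.sum_apply]
    simp only [rhoR_castV]
    rw [← castV_sum, ← hw, h w this]
    funext i; simp [castV]
  have h2 : ∀ a : ℕ, k * y ^ a = y ^ (r * a) * k := fun a => by
    rw [pow_mul, ← e, conj_pow]; group
  have h3 : ∀ i ∈ Finset.range 7, tr (y ^ i * k) = tr k := fun i hi => by
    obtain ⟨a, ha⟩ : ∃ a < 7, (r * a + 6 * a) % 7 = i := by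
      rw [Finset.mem_range] at hi
      rcases hr with rfl | rfl | rfl <;> revert i <;> decide
    rw [← tr_conj (y ^ a)⁻¹ k, inv_inv, mul_assoc, h2, ← mul_assoc, ← ha.2,
      ← pow_eq_pow_mod _ h7, add_comm, pow_add]
    congr 3
    rw [eq_inv_iff_mul_eq_one, ← pow_add, show 6 * a + a = 7 * a by ring, pow_mul, h7, one_pow]
  have h4 : ∑ i ∈ Finset.range 7, tr (y ^ i * k) = 0 := by
    simp only [tr, map_mul]
    rw [← map_sum, ← Finset.sum_mul, h1, zero_mul, map_zero]
  rw [Finset.sum_congr rfl h3] at h4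
  simpa using h4

/-- a monomial element of odd order and trace `0` moves every coordinate -/
theorem ne_of_tr {k : Co0} {n : ℕ} (hn : Odd n) (h1 : k ^ n = 1) {σ : GolayPt → GolayPt}
    (hσ : ∀ i, k • e8 i = e8 (σ i) ∨ k • e8 i = -e8 (σ i)) (h : tr k = 0) (i : GolayPt) :
    σ i ≠ i := by
  have h2 : ∀ j, rhoR ℚ k (Pi.single j 1) j = if σ j = j then 1 else 0 := fun j => by
    have h3 := congrFun (rhoR_castV ℚ k (e8 j)) j
    rw [castV_e8, map_smul] at h3
    split_ifs with e
    · have h4 : k • e8 j = e8 j := by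
        have := hσ j
        rw [e] at this
        exact this.resolve_right fun a => e8_ne_neg j j (by rw [fix_of_neg hn h1 a, neg_zero])
      rw [h4, castV_e8] at h3
      simp only [Pi.smul_apply, Pi.single_eq_same, smul_eq_mul] at h3
      linarith
    · rcases hσ j with a | a <;> rw [a] at h3
      · rw [castV_e8] at h3
        simpa [Pi.single_apply, Ne.symm e] using h3
      · rw [castV_neg, castV_e8] at h3
        simpa [Pi.single_apply, Ne.symm e] using h3
  rw [tr, LinearMap.trace_eq_matrix_trace ℚ (Pi.basisFun ℚ GolayPt), Matrix.trace] at h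
  simp only [Matrix.diag_apply, LinearMap.toMatrix_apply, Pi.basisFun_apply, Pi.basisFun_repr, h2] at h
  rw [Finset.sum_eq_zero_iff_of_nonneg fun j _ => by split_ifs <;> norm_num] at h
  intro e
  simpa [e] using h i (Finset.mem_univ _)

end CL.PA
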