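import Mathlib
import Cfsg.Agent.SPOR.PA.Glob
import Cfsg.Agent.SPOR.PA.OnL
import Cfsg.Agent.SPOR.PA.OnD
import Cfsg.Agent.SPOR.MP.RowHe

/-! Neither the O'Nan group nor its triple cover is a subgroup of the Monster. -/

set_option autoImplicit false
set_option linter.unusedSectionVars false

namespace CL.PA

open Cfsg CL CL.Leech CL.MT CL.MP CL.Co1T Subgroup MulAction OnD

variable {G : Type*} [Group G] {z : G}

section

variable [Finite G] {w : G} {R : leechLattice → G → Prop} {A : Co0 → G → Prop}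

/-- an element of order `7` fixing a frame is not in the commutator subgroup of its centraliser -/
theorem Cx.no7 (h : Cx w R A) {y a b : G} {k : Co0} (y7 : orderOf y = 7) (hk : A k y)
    {μ : leechLattice} (h64 : sqNorm μ.1 = 64) (hμ : Cong (k • μ) μ) (ha : a * y = y * a)
    (hb : b * y = y * b) (e : (a * b * a⁻¹ * b⁻¹) ^ 15 = y) : False := by
  obtain ⟨s, hs⟩ := h.mt.ex_x μ
  have hc := h.conj_of_64 hs h64
  have hne := (h.mt.ne_of_norm hs h64.le (by rw [h64]; norm_num)).2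
  have ys := (h.mt.comm_iff_fix (n := 7) (by decide) (y7 ▸ pow_orderOf_eq_one y) hk hs).2 hμ
  have := h.mt.normal_Q0
  have hM := h.mt.isOfMonsterType
  have hsQ : ∃ hsc : s ∈ centralizer ({w} : Set G), (⟨s, hsc⟩ : centralizer ({w} : Set G)) ∈
      MT.Q0 w (QQ w) := ⟨h.mt.le_cent (h.mt.R_mem hs), h.mt.R_mem hs⟩
  obtain ⟨Q1, R', A', h', -, hs'⟩ := setup hM hsQ hc hne
  obtain ⟨ρ, h1, h2, -⟩ := h'.exists_rho hs'
  obtain ⟨n, hn⟩ := card_eq_of_ker ρ h1 h2
  have := normal_zpowers_cent y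
  obtain ⟨ε⟩ := Cfsg.Agent.S5417.result w _ hM s hsQ hc hne (zpowers y) (zpowers_le.2 (by
    rintro _ (rfl | rfl)
    exacts [(h.mt.A_comm hk).symm, ys.symm])) (by
      rw [hn, Golay.card_M24, Nat.factorization_mul (by positivity) (by norm_num), Finsupp.add_apply,
        Nat.factorization_eq_zero_of_not_dvd (fun e => by
          have := (Nat.prime_dvd_prime_iff_eq (by norm_num) Nat.prime_two).1
            ((by norm_num : Nat.Prime 7).dvd_of_dvd_pow e)
          omega), Nat.card_zpowers, y7]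
      decide +kernel)
  obtain ⟨k1, k2⟩ := Cfsg.Agent.S1695.result
  obtain ⟨ξ, hξ⟩ : ∃ ξ : centralizer ((zpowers y : Subgroup G) : Set G) →* Spor.He,
    ξ = ε.toMonoidHom.comp (QuotientGroup.mk' _) := ⟨_, rfl⟩
  have hker : ∀ x, ξ x = 1 ↔ (x : G) ∈ zpowers y := fun x => by
    rw [hξ]; exact ε.map_eq_one_iff.trans (QuotientGroup.eq_one_iff x)
  have hcen : ∀ x, ξ x = 1 → ∀ c, Commute c x := fun x hx c =>
    Subtype.ext (c.2 x ((hker x).1 hx)).symm
  obtain ⟨η, hη⟩ := CL.Schur.exists_lift_of_trivial_of_perfect Cfsg.Agent.S2049.result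
    (isPerfect_of_simple_card (by rw [k2]; norm_num)) (MonoidHom.id Spor.He) (ξ := ξ)
    ⟨hξ ▸ ε.surjective.comp (QuotientGroup.mk'_surjective _), fun x hx =>
      mem_center_iff.2 fun c => (hcen x hx c).eq⟩
  have key : ∀ c, ∃ x, (∀ d, Commute d x) ∧ c = η (ξ c) * x := fun c =>
    ⟨(η (ξ c))⁻¹ * c, hcen _ (by
      rw [map_mul, map_inv, show ξ (η (ξ c)) = ξ c from DFunLike.congr_fun hη _, inv_mul_cancel]),
      by group⟩
  have m : ∀ {c : G}, c * y = y * c → c ∈ centralizer ((zpowers y : Subgroup G) : Set G) :=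
    fun hc => by rw [CL.LX.centralizer_zpowers]; exact mem_centralizer_singleton_iff.2 hc
  obtain ⟨x, x1, x2⟩ := key ⟨a, m ha⟩
  obtain ⟨x', x3, x4⟩ := key ⟨b, m hb⟩
  have e1 : ((⟨a, m ha⟩ * ⟨b, m hb⟩ * (⟨a, m ha⟩)⁻¹ * (⟨b, m hb⟩)⁻¹) ^ 15 :
    centralizer ((zpowers y : Subgroup G) : Set G)) = ⟨y, m rfl⟩ := Subtype.ext e
  have e2 := congrArg (fun c => η (ξ c)) e1
  simp only [map_pow, map_mul, map_inv] at e2
  rw [(hker ⟨y, m rfl⟩).2 (mem_zpowers y), map_one] at e2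
  generalize η (ξ ⟨a, m ha⟩) = p at x2 e2
  generalize η (ξ ⟨b, m hb⟩) = q at x4 e2
  rw [x2, x4, show p * x * (q * x') * (p * x)⁻¹ * (q * x')⁻¹ = p * q * p⁻¹ * q⁻¹ by
    calc _ = p * (x * (q * x') * x⁻¹) * p⁻¹ * x'⁻¹ * q⁻¹ := by group
      _ = p * q * (x' * p⁻¹ * x'⁻¹) * q⁻¹ := by rw [← (x1 _).eq, mul_inv_cancel_right]; group
      _ = _ := by rw [← (x3 _).eq, mul_inv_cancel_right], e2] at e1
  rw [← show (1 : G) = y from congrArg Subtype.val e1, orderOf_one] at y7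
  omega

theorem nine_dvd {P X : Type*} [Group P] [MulAction P X] [Finite X] {n : ℕ}
    (h : ∀ x : X, n ∣ (stabilizer P x).index) : n ∣ Nat.card X := by
  have := Fintype.ofFinite (orbitRel.Quotient P X)
  rw [Nat.card_congr (selfEquivSigmaOrbits P X), Nat.card_sigma]
  exact Finset.dvd_sum fun o _ => by
    rw [Nat.card_coe_set_eq, ← index_stabilizer]; exact h _

theorem Cx.no9 (h : Cx w R A) {y j : G} {k u : Co0} (hk : A k y) (k7 : k ^ 7 = 1) (hf : Fpf k)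
    (hu : A u j) (hd : Dod (pr u)) (P : Subgroup G) {E : Type*} [Group E] (π : P →* E)
    (h9 : 9 ∣ π.ker.index) (hP : ∀ c ∈ P, c * w = w * c ∧ c * j = j * c ∧ c ^ 9 = 1)
    (hE : ∀ c : P, π c ≠ 1 → Pw w y c) : False := by
  obtain ⟨φ, hφ⟩ := exists_permPart
  have h1 : ∀ c : P, ∃ m : NN, A m c ∧ (m : Co0) ^ 9 = 1 := fun c => by
    obtain ⟨m, m1, m2⟩ := h.odd_lift (hP c c.2).1 (n := 9) (by decide) (hP c c.2).2.2
    refine ⟨⟨m, pr_mem_N0.1 (hd.cent ?_)⟩, m1, m2⟩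
    rw [← map_mul, ← map_mul, h.mt.lift_comm (by decide) m2 m1 (hP c c.2).2.1.symm hu]
  choose m m1 m2 using h1
  let ρ : P →* M24 := MonoidHom.mk' (fun c => φ (m c)) fun c d => by
    rw [← map_mul]
    refine Subtype.ext (Equiv.ext fun i => pm_e8_unique (hφ _ i) ?_)
    have := h.mt.center_of_A (m1 (c * d)) (h.mt.A_mul (m1 c) (m1 d))
    rcases Leech.mem_center_iff.1 this with e | e <;> rw [mul_inv_eq_iff_eq_mul] at e <;> rw [e]
    · rw [one_mul]; exact hφ (m c * m d) i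
    · rw [mul_smul, neg1_smul, neg_eq_iff_eq_neg, neg_inj]
      exact (hφ (m c * m d) i).symm
  let _ := MulAction.compHom GolayPt (M24.subtype.comp ρ)
  have := nine_dvd (P := P) (X := GolayPt) (n := 9) fun i => h9.trans (index_dvd_of_le fun c hc => by
    by_contra hn
    obtain ⟨d, r, d1, d2, d3⟩ := hE c hn
    obtain ⟨g, hg⟩ := h.mt.ex_g d d1
    have a1 := h.mt.A_mul (h.mt.A_mul hg hk) (h.mt.A_inv hg)
    have a2 : (g * k * g⁻¹) ^ 7 = 1 := by rw [conj_pow, k7]; group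
    refine ne_of_tr (n := 9) (by decide) (m2 c) (hφ (m c)) ((hf.conj g).tr_eq a2 (r := r) (by omega)
      (h.mt.lift_conj (n := 7) (by decide) a2 (by rw [← pow_mul, mul_comm, pow_mul, a2, one_pow]) a1
        (d3 ▸ h.mt.A_pow a1 r) (m1 c))) i hc)
  rw [Nat.card_eq_fintype_card, Golay.card_pt] at this
  omega

theorem Mo.noON (h : Mo w) {y a b j : G} (y7 : orderOf y = 7) (yw : y * w = w * y)
    (ha : a * y = y * a) (hb : b * y = y * b) (e : (a * b * a⁻¹ * b⁻¹) ^ 15 = y)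
    (j2 : j * j = 1) (jw : j * w = w * j) (jy : j * y * j⁻¹ = y ^ 6)
    (P : Subgroup G) {E : Type*} [Group E] (π : P →* E)
    (h9 : 9 ∣ π.ker.index) (hP : ∀ c ∈ P, c * w = w * c ∧ c * j = j * c ∧ c ^ 9 = 1)
    (hE : ∀ c : P, π c ≠ 1 → Pw w y c) : False := by
  have : Fact (Nat.Prime 7) := ⟨by norm_num⟩
  obtain ⟨R, A, h⟩ := h
  have h7 : y ^ 7 = 1 := y7 ▸ pow_orderOf_eq_one y
  obtain ⟨k, hk, k7⟩ := h.odd_lift yw (by decide) h7
  by_cases hf : Fpf k
  · obtain ⟨u, hu⟩ := h.mt.ex_g j jw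
    have u2 := h.sq hu j2
    obtain ⟨g, hg⟩ := CC.exists_conj ⟨u, u2, hf.tr_eq k7 (r := 6) (by omega)
      (h.mt.lift_conj (n := 7) (by decide) k7 (by rw [← pow_mul, mul_comm, pow_mul, k7, one_pow]) hk
        (jy ▸ h.mt.A_pow hk 6) hu), rfl⟩ dod_dD.cc
    obtain ⟨g, rfl⟩ := pr_surj g
    refine (h.twist g⁻¹).no9 (y := y) (j := j) (k := g * k * g⁻¹) (u := g * u * g⁻¹)
      (by simpa [mul_assoc] using hk) (by rw [conj_pow, k7]; group) (hf.conj g)
      (by simpa [mul_assoc] using hu) ?_ P π h9 hP hE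
    rw [map_mul, map_mul, map_inv, hg]
    exact dod_dD
  · obtain ⟨μ, h1, h2⟩ := exists64 (orderOf_eq_prime k7 fun e => by
      rw [h.odd_ne (by decide) h7 hk (e ▸ one_mem _), orderOf_one] at y7
      omega) hf
    exact h.no7 y7 hk h1 h2 ha hb e

end

section lift

variable {H K : Type*} [Group H] [Group K] {π : H →* K}
  (hk : ∀ x, π x = 1 → x ^ 3 = 1 ∧ ∀ c, Commute c x)
include hk

/-- elements of order prime to `3` are determined by their images -/
theorem lift_eq {x y : H} {n : ℕ} (hn : Nat.Coprime 3 n) (hx : x ^ n = 1) (hy : y ^ n = 1)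
    (e : π x = π y) : x = y := by
  obtain ⟨h1, h2⟩ := hk (y⁻¹ * x) (by rw [map_mul, map_inv, e, inv_mul_cancel])
  have h3 : (y * (y⁻¹ * x)) ^ n = 1 := by rwa [mul_inv_cancel_left]
  rw [(h2 y).mul_pow, hy, one_mul] at h3
  have := pow_gcd_eq_one.2 ⟨h1, h3⟩
  rw [hn, pow_one] at this
  exact (inv_mul_eq_one.1 this).symm

theorem lift_comm' {x c : H} {n : ℕ} (hn : Nat.Coprime 3 n) (hx : x ^ n = 1)
    (e : π c * π x = π x * π c) : c * x = x * c :=
  mul_inv_eq_iff_eq_mul.1 (lift_eq hk hn (by rw [conj_pow, hx]; group) hx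
    (by rw [map_mul, map_mul, e, map_inv, mul_inv_cancel_right]))

theorem lift_pow {x : H} {n m : ℕ} (hx : π x ^ n = 1) : (x ^ (3 * (n * m + 1))) ^ n = 1 := by
  rw [← pow_mul, show 3 * (n * m + 1) * n = n * 3 * (n * m + 1) by ring, pow_mul, pow_mul,
    (hk _ (by rwa [map_pow])).1, one_pow]

end lift

theorem noON (h : Glob z) (H : Subgroup G) (π : H →* Cfsg.Spor.ON) (hs : Function.Surjective π)
    (hc : π.ker ≤ Subgroup.center H) (h3 : Nat.card π.ker ∣ 3) : False := by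
  have := h.finite
  have : Fact (Nat.Prime 7) := ⟨by norm_num⟩
  have hk : ∀ x, π x = 1 → x ^ 3 = 1 ∧ ∀ c, Commute c x := fun x hx =>
    ⟨orderOf_dvd_iff_pow_eq_one.1 ((orderOf_dvd_natCard _ (MonoidHom.mem_ker.2 hx)).trans h3),
      fun c => mem_center_iff.1 (hc hx) c⟩
  have inv2 : ∀ v : Spor.ON, v * v = 1 → ∃ x, π x = v ∧ x ^ 2 = 1 := fun v hv => by
    obtain ⟨x, rfl⟩ := hs v
    exact ⟨_, by rw [map_pow, pow_succ, pow_two, hv, one_mul],
      lift_pow hk (m := 0) (by rwa [pow_two])⟩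
  obtain ⟨w, g, y, a, b, j, E, w2, wg, y7, y1, yw, ay, by', e, j2, jw, jy, h9, hP, hE⟩ := data
  obtain ⟨w, rfl, w2'⟩ := inv2 w w2
  obtain ⟨j, rfl, j2'⟩ := inv2 j j2
  obtain ⟨y, rfl, y7'⟩ : ∃ x, π x = y ∧ x ^ 7 = 1 := by
    obtain ⟨x, rfl⟩ := hs y
    refine ⟨x ^ 15, by rw [map_pow, pow_eq_pow_mod _ y7, pow_one], ?_⟩
    rw [← pow_mul, show 15 * 7 = 7 * 3 * 5 by norm_num, pow_mul, pow_mul,
      (hk _ (by rwa [map_pow])).1, one_pow]
  obtain ⟨g, rfl⟩ := hs g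
  obtain ⟨a, rfl⟩ := hs a
  obtain ⟨b, rfl⟩ := hs b
  have v : ∀ {p q : H}, p = q → (p : G) = q := congrArg Subtype.val
  have c2 : ∀ {x c : H}, x ^ 2 = 1 → π c * π x = π x * π c → (c : G) * x = x * c := fun a b =>
    v (lift_comm' hk (by norm_num) a b)
  have c7 : ∀ {c : H}, π c * π y = π y * π c → (c : G) * y = y * c := fun b =>
    v (lift_comm' hk (by norm_num) y7' b)
  let ι := ((E.comap π).equivMapOfInjective H.subtype H.subtype_injective).symm
  have hι : ∀ c, ((ι c : H) : G) = c := fun c =>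
    congrArg Subtype.val (((E.comap π).equivMapOfInjective H.subtype
      H.subtype_injective).apply_symm_apply c)
  refine (h.mo_of (s := w) (g := g) (by rw [← pow_two]; exact v w2') ?_).noON (y := y) (a := a)
    (b := b) (j := j) (orderOf_eq_prime (v y7') fun e => y1 (by
      rw [show y = 1 from Subtype.ext e, map_one])) (c2 w2' yw) (c7 ay) (c7 by') ?_
    (by rw [← pow_two]; exact v j2') (c2 w2' jw) ?_ ((E.comap π).map H.subtype)
    (π.comp ((E.comap π).subtype.comp ι.toMonoidHom)) ?_ ?_ ?_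
  · have h1 := orderOf_map_dvd π (w * (g * w * g⁻¹))
    rw [map_mul, map_mul, map_mul, map_inv, wg, ← orderOf_coe] at h1
    exact lt_of_lt_of_le (by norm_num) (Nat.le_of_dvd (orderOf_pos _) h1)
  · refine v (lift_eq hk (x := (a * b * a⁻¹ * b⁻¹) ^ 15) (n := 7) (by norm_num) ?_ y7' ?_)
    · rw [← pow_mul, show 15 * 7 = 7 * 3 * 5 by norm_num, pow_mul, pow_mul,
        (hk _ (by simp only [map_pow, map_mul, map_inv, e, y7])).1, one_pow]
    · simp only [map_pow, map_mul, map_inv, e]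
      rw [pow_eq_pow_mod _ y7, pow_one]
  · exact v (lift_eq hk (x := j * y * j⁻¹) (y := y ^ 6) (n := 7) (by norm_num)
      (by rw [conj_pow, y7']; group) (by rw [← pow_mul, mul_comm, pow_mul, y7', one_pow])
      (by simpa using jy))
  · rw [index_ker]
    convert h9 using 3
    ext x
    constructor
    · rintro ⟨c, rfl⟩; exact (ι c).2
    · intro hx
      obtain ⟨x, rfl⟩ := hs x
      exact ⟨ι.symm ⟨x, hx⟩, by simp⟩
  · rintro _ ⟨c, hc, rfl⟩
    obtain ⟨k1, k2, k3⟩ := hP _ hc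
    refine ⟨c2 w2' k1, c2 j2' k2, v (p := c ^ 9) (q := 1) ?_⟩
    rw [show 9 = 3 * 3 from rfl, pow_mul, (hk _ (by rwa [map_pow])).1]
  · intro c hc
    obtain ⟨d, r, d1, d2, d3⟩ := hE _ (ι c).2 hc
    obtain ⟨d, rfl⟩ := hs d
    have a2 : (d * y * d⁻¹) ^ 7 = 1 := by rw [conj_pow, y7']; group
    refine ⟨d, r, c2 w2' d1, d2, hι c ▸ v (lift_eq hk (x := (ι c : H) * (d * y * d⁻¹) * (ι c : H)⁻¹)
      (y := (d * y * d⁻¹) ^ r) (n := 7) (by norm_num) (by rw [conj_pow, a2]; group)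
      (by rw [← pow_mul, mul_comm, pow_mul, a2, one_pow]) (by simpa using d3))⟩

end CL.PA
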