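import Mathlib
import Cfsg.Agent.SPOR.PA.Glob
import Cfsg.Agent.SPOR.PA.OnL
import Cfsg.Agent.SPOR.RuMdl

/-! The Rudvalis group is not a subgroup of the Monster: an element of order `13` of the Monster
centralises no four-group containing a `2B` involution. -/

set_option autoImplicit false

namespace CL.PA

open Cfsg CL CL.Leech CL.MT Subgroup

variable {G : Type*} [Group G] {z : G}

theorem Mo.no13 {w y u : G} (h : Mo w) (y13 : y ^ 13 = 1) (y1 : y ≠ 1) (yw : y * w = w * y)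
    (u2 : u * u = 1) (u1 : u ≠ 1) (uw : u ≠ w) (hu : u * w = w * u) (uy : u * y = y * u) : False := by
  obtain ⟨R, A, h⟩ := h
  obtain ⟨k, hk, k13⟩ := h.odd_lift yw (by decide) y13
  have k1 : k ≠ 1 := fun e => y1 (h.odd_ne (by decide) y13 hk (e ▸ one_mem _))
  obtain ⟨m, hm⟩ := h.mt.ex_g u hu
  rcases comm13 k13 (h.sq hm u2) (h.mt.lift_comm (by decide) k13 hk uy hm).symm with e | e
  · exact k1 e
  obtain ⟨v, hv⟩ := h.mt.ex_v u ((h.mt.A_ker hm).2 e)
  refine k1 (fix13 k13 ((h.mt.comm_iff_fix (by decide) y13 hk hv).1 uy.symm) fun e => ?_)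
  rcases (h.mt.R_cong h.mt.R_zero hv).1 e.symm with a | a
  exacts [u1 a, uw (a.trans (one_mul _))]

namespace RuD

open CL.AutT CL.SchurC CL.K

/-- the generators in the Rudvalis group -/
noncomputable def gr (j : ℕ) : Spor.Ru := Ru.ruEquiv.symm (Ru.gp j)

theorem mdl : letI := MulAction.compHom (Fin 4060) Ru.ruEquiv.toMonoidHom
    Mdl Ru.dF (· < 4060) gr Ru.aF [0, 1, 28, 191] := by
  let _ := MulAction.compHom (Fin 4060) Ru.ruEquiv.toMonoidHom
  have k : ∀ (x : Spor.Ru) (p : Fin 4060), x • p = Ru.ruEquiv x • p := fun _ _ => rfl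
  refine ⟨fun j c hc => ⟨(Ru.mdl.rp j c hc).1, ?_⟩, Ru.mdl.inj, Ru.mdl.isb.valid, fun x hx =>
    Ru.ruEquiv.map_eq_one_iff.1 (Ru.mdl.isb.eq_one _ fun c hc => k x _ ▸ hx c hc)⟩
  rw [k, gr, MulEquiv.apply_symm_apply]
  exact (Ru.mdl.rp j c hc).2

def ww : List ℕ := (List.replicate 13 [4, 1]).flatten
def uw : List ℕ := (List.replicate 7 [0, 4]).flatten
def yw : List ℕ := [4, 1, 4, 1]

theorem data : ∃ w y u g : Spor.Ru, w * w = 1 ∧ orderOf (w * (g * w * g⁻¹)) = 7 ∧ y ^ 13 = 1 ∧ y ≠ 1 ∧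
    y * w = w * y ∧ u * u = 1 ∧ u ≠ 1 ∧ u ≠ w ∧ u * w = w * u ∧ u * y = y * u := by
  let _ := MulAction.compHom (Fin 4060) Ru.ruEquiv.toMonoidHom
  have : Fact (Nat.Prime 7) := ⟨by norm_num⟩
  have sq : ∀ {v : List ℕ}, feq (itr (wap Ru.aF v) 2) (fun c => c) [0, 1, 28, 191] = true →
      wd gr v * wd gr v = 1 := fun h => (pow_two _).symm.trans (mdl.pow_eq_one h)
  have hw : wd gr ww * wd gr ww = 1 := sq (by decide +kernel)
  refine ⟨wd gr ww, wd gr yw, wd gr uw, wd gr [2], hw, ?_, mdl.pow_eq_one (by decide +kernel),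
    mdl.ne_one (x := 0) (by norm_num) (by decide +kernel), mdl.commute (by decide +kernel),
    sq (by decide +kernel), mdl.ne_one (x := 0) (by norm_num) (by decide +kernel), fun e => ?_,
    mdl.commute (by decide +kernel), mdl.commute (by decide +kernel)⟩
  · rw [inv_eq_of_mul_eq_one_right (sq (v := [2]) (by decide +kernel)), ← wd_append, ← wd_append,
      ← wd_append]
    exact orderOf_eq_prime (mdl.pow_eq_one (by decide +kernel))
      (mdl.ne_one (x := 0) (by norm_num) (by decide +kernel))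
  · refine mdl.ne_one (w := uw ++ ww) (x := 0) (by norm_num) (by decide +kernel) ?_
    rw [wd_append, e, hw]

end RuD

theorem noRu (h : Glob z) (η : Cfsg.Spor.Ru →* G) (hη : Function.Injective η) : False := by
  obtain ⟨w, y, u, g, h1, h2, h3, h4, h5, h6, h7, h8, h9, h10⟩ := RuD.data
  have m : ∀ {a b c d : Spor.Ru}, a * b = c * d → η a * η b = η c * η d := fun e => by
    rw [← map_mul, e, map_mul]
  refine (h.mo_of (s := η w) (g := η g) (by rw [← map_mul, h1, map_one]) ?_).no13 (y := η y)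
    (u := η u) (by rw [← map_pow, h3, map_one]) ((map_ne_one_iff η hη).2 h4) (m h5)
    (by rw [← map_mul, h6, map_one]) ((map_ne_one_iff η hη).2 h7) (hη.ne h8) (m h9) (m h10)
  rw [← map_inv, ← map_mul, ← map_mul, ← map_mul, orderOf_injective η hη, h2]
  norm_num

end CL.PA
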