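import Mathlib
import Cfsg.Agent.SPOR.PA.Cfg

/-! (S2198.) Arithmetic: the prime powers dividing `|M| / |X|` for `X = J3, ON, Ru`. -/

set_option autoImplicit false

namespace CL.PA

open Cfsg CL CL.Leech CL.LX CL.MSS CL.MT CL.MP CL.Rk Subgroup
open scoped commutatorElement

theorem tab_of {X M a p n : ℕ} (L : List (ℕ × ℕ × ℕ)) (hX : 0 < X)
    (h1 : M = 2 ^ a * (L.map fun t => t.1 ^ t.2.1).prod * X)
    (hL : ∀ t ∈ L, t.1.Prime ∧ ¬ t.1 ^ (t.2.1 + 1) * X ∣ M ∧ t.2.2.Prime ∧ t.2.2 ≠ t.1 ∧ t.2.2 ∣ X ∧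
      ∀ m ≤ t.2.1, 0 < m → t.1 ^ m % t.2.2 ≠ 1)
    (hp : p.Prime) (h2 : p ≠ 2) (h : p ^ n * X ∣ M) : n = 0 ∨
      ∃ r, r.Prime ∧ r ≠ p ∧ r ∣ X ∧ ∀ m, 0 < m → m ≤ n → p ^ m % r ≠ 1 := by
  refine or_iff_not_imp_left.2 fun h0 => ?_
  have h3 := (dvd_pow_self p h0).trans (Nat.dvd_of_mul_dvd_mul_right hX (h1 ▸ h))
  rcases (Nat.Prime.dvd_mul hp).1 h3 with e | e
  · exact absurd ((Nat.prime_dvd_prime_iff_eq hp Nat.prime_two).1 (hp.dvd_of_dvd_pow e)) h2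
  obtain ⟨_, e1, e2⟩ := (Prime.dvd_prod_iff hp.prime).1 e
  obtain ⟨t, ht, rfl⟩ := List.mem_map.1 e1
  obtain ⟨k1, k2, k3, k4, k5, k6⟩ := hL t ht
  obtain rfl := (Nat.prime_dvd_prime_iff_eq hp k1).1 (hp.dvd_of_dvd_pow e2)
  exact ⟨_, k3, k4, k5, fun m m0 m1 => k6 m (m1.trans (not_lt.1 fun a =>
    k2 ((mul_dvd_mul_right (pow_dvd_pow _ a) X).trans h))) m0⟩

theorem tabJ3 (p n : ℕ) (hp : p.Prime) (h2 : p ≠ 2)
    (h : p ^ n * 50232960 ∣ 808017424794512875886459904961710757005754368000000000) : n = 0 ∨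
      ∃ r, r.Prime ∧ r ≠ p ∧ r ∣ 50232960 ∧ ∀ m, 0 < m → m ≤ n → p ^ m % r ≠ 1 :=
  tab_of (a := 39) [(3, 15, 19), (5, 8, 19), (7, 6, 17), (11, 2, 19), (13, 3, 19), (23, 1, 19),
    (29, 1, 19), (31, 1, 19), (41, 1, 19), (47, 1, 19), (59, 1, 19), (71, 1, 19)] (by norm_num)
    (by decide +kernel) (by decide +kernel) hp h2 h

theorem tabON (p n : ℕ) (hp : p.Prime) (h2 : p ≠ 2)
    (h : p ^ n * 460815505920 ∣ 808017424794512875886459904961710757005754368000000000) : n = 0 ∨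
      ∃ r, r.Prime ∧ r ≠ p ∧ r ∣ 460815505920 ∧ ∀ m, 0 < m → m ≤ n → p ^ m % r ≠ 1 :=
  tab_of (a := 37) [(3, 16, 19), (5, 8, 19), (7, 3, 31), (11, 1, 19), (13, 3, 19), (17, 1, 19),
    (23, 1, 19), (29, 1, 19), (41, 1, 19), (47, 1, 19), (59, 1, 19), (71, 1, 19)] (by norm_num)
    (by decide +kernel) (by decide +kernel) hp h2 h

theorem tabRu (p n : ℕ) (hp : p.Prime) (h2 : p ≠ 2)
    (h : p ^ n * 145926144000 ∣ 808017424794512875886459904961710757005754368000000000) : n = 0 ∨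
      ∃ r, r.Prime ∧ r ≠ p ∧ r ∣ 145926144000 ∧ ∀ m, 0 < m → m ≤ n → p ^ m % r ≠ 1 :=
  tab_of (a := 32) [(3, 17, 29), (5, 6, 29), (7, 5, 29), (11, 2, 29), (13, 2, 29), (17, 1, 29),
    (19, 1, 29), (23, 1, 29), (31, 1, 29), (41, 1, 29), (47, 1, 29), (59, 1, 13), (71, 1, 29)]
    (by norm_num) (by decide +kernel) (by decide +kernel) hp h2 h

end CL.PA
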